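import Mathlib
import Cfsg.Prelude.Def_HallClasses
import Cfsg.Agent.Perm69.JordanPrime

/-!
# Cycles and four-groups in Hall subgroups of alternating groups

* `exists_cycle_meeting`: enough `p`-cycles to meet every set of more than `n % p` points.
* `false_of_two_not_three`: no Hall subgroup for `2, q ∈ π`, `3 ∉ π`.
* `false_of_two_not_mem`: no Hall subgroup for two odd primes in `π` and `2 ∉ π`.
-/

set_option autoImplicit false

namespace CfsgLib.HallSymm

open Equiv Equiv.Perm MulAction
open scoped Pointwise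

variable {α : Type*} [Fintype α] [DecidableEq α]

/-- A block of a prime cycle is inside its support or contains it. -/
theorem cycle_block {q : ℕ} (hq : q.Prime) {c : Perm α} (hc : c.IsCycle) (hcard : c.support.card = q)
    (X : Finset α) (hX : ∀ i : ℕ, X.image ⇑(c ^ i) = X ∨ Disjoint (X.image ⇑(c ^ i)) X)
    {a : α} (haX : a ∈ X) (hac : a ∈ c.support) : c.support ⊆ X ∨ X = {a} := by
  have hord : orderOf c = q := hc.orderOf.trans hcard
  by_cases h1 : X.image ⇑c = X
  · left
    have hpow : ∀ i : ℕ, ∀ x ∈ X, (c ^ i) x ∈ X := by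
      intro i
      induction i with
      | zero => simp
      | succ i ih =>
        intro x hx
        rw [pow_succ', mul_apply]
        exact h1 ▸ Finset.mem_image_of_mem _ (ih x hx)
    intro y hy
    obtain ⟨i, -, rfl⟩ := (hc.sameCycle (mem_support.1 hac) (mem_support.1 hy)).exists_pow_eq'
    exact hpow i a haX
  right
  have hmv : ∀ i : ℕ, ¬ q ∣ i → Disjoint (X.image ⇑(c ^ i)) X := by
    intro i hi
    refine (hX i).resolve_left fun h => h1 ?_
    obtain ⟨m, -, hm⟩ := Nat.exists_mul_mod_eq_one_of_coprime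
      ((hq.coprime_iff_not_dvd.2 hi).symm) hq.one_lt
    have hiter : ∀ k : ℕ, X.image ⇑(c ^ (i * k)) = X := by
      intro k
      induction k with
      | zero => simp
      | succ k ih => rw [mul_add, mul_one, pow_add, coe_mul, ← Finset.image_image, h, ih]
    have := hiter m
    rwa [← pow_mod_orderOf, hord, hm, pow_one] at this
  have hsub : X ⊆ c.support := by
    intro x hx
    rw [mem_support]
    intro hfix
    have hd := hmv 1 (fun hd => hq.not_dvd_one hd)
    rw [pow_one] at hd
    exact Finset.disjoint_left.1 hd (Finset.mem_image.2 ⟨x, hx, hfix⟩) hx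
  have hinj : Set.InjOn (fun p : ℕ × α => (c ^ p.1) p.2) ↑(Finset.range q ×ˢ X) := by
    intro u hu v hv huv
    wlog hle : u.1 ≤ v.1 generalizing u v
    · exact (this hv hu huv.symm (by omega)).symm
    obtain ⟨i, x⟩ := u
    obtain ⟨j, y⟩ := v
    simp only [Finset.coe_product, Set.mem_prod, Finset.mem_coe, Finset.mem_range] at hu hv
    simp only at huv hle
    have hij : i = j := by
      by_contra hne
      have h2 : x = (c ^ (j - i)) y := by
        apply (c ^ i).injective
        rw [huv, ← mul_apply, ← pow_add, show i + (j - i) = j by omega]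
      exact Finset.disjoint_left.1 (hmv (j - i) (fun hd => by
        have := Nat.le_of_dvd (by omega) hd; omega)) (Finset.mem_image.2 ⟨y, hv.2, h2.symm⟩) hu.2
    subst hij
    exact Prod.ext rfl ((c ^ i).injective huv)
  have hcnt : (Finset.range q ×ˢ X).card ≤ c.support.card := by
    refine Finset.card_le_card_of_injOn _ (fun u hu => ?_) hinj
    simp only [Finset.coe_product, Set.mem_prod, Finset.mem_coe] at hu ⊢
    exact (pow_apply_mem_support (n := u.1)).2 (hsub hu.2)
  rw [Finset.card_product, Finset.card_range, hcard] at hcnt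
  have hX1 : X.card = 1 := by
    have := Finset.card_pos.2 ⟨a, haX⟩
    have := Nat.le_of_mul_le_mul_left (hcnt.trans_eq (mul_one q).symm) hq.pos
    omega
  obtain ⟨b, hb⟩ := Finset.card_eq_one.1 hX1
  rw [hb, Finset.mem_singleton] at haX
  rw [hb, haX]

section Hall

variable {π : Set ℕ}

/-- A `p`-subgroup is conjugate into a Hall subgroup. -/
theorem exists_conj_le {G : Type*} [Group G] [Finite G] {H : Subgroup G} (hH : Cfsg.IsPiHall π H)
    {p : ℕ} (hp : p.Prime) (hpπ : p ∈ π) {Q : Subgroup G} (hQ : IsPGroup p Q) :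
    ∃ g : G, ∀ x ∈ Q, g * x * g⁻¹ ∈ H := by
  haveI := Fact.mk hp
  obtain ⟨P0⟩ : Nonempty (Sylow p H) := inferInstance
  let P : Sylow p G := Sylow.ofCard ((P0 : Subgroup H).map H.subtype) (by
    rw [Subgroup.card_map_of_injective H.subtype_injective, P0.card_eq_multiplicity, ← H.card_mul_index,
      Nat.factorization_mul Nat.card_pos.ne' Subgroup.index_ne_zero_of_finite, Finsupp.add_apply,
      Nat.factorization_eq_zero_of_not_dvd (hH.2 p hp hpπ), add_zero])
  obtain ⟨P', hQP⟩ := hQ.exists_le_sylow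
  obtain ⟨g, hg⟩ := exists_smul_eq G P' P
  refine ⟨g, fun x hx => ?_⟩
  have h1 : g * x * g⁻¹ ∈ ((g • P' : Sylow p G) : Subgroup G) := by
    rw [Sylow.coe_subgroup_smul]
    exact ⟨x, hQP hx, rfl⟩
  rw [hg] at h1
  exact Subgroup.map_subtype_le _ h1

/-- `M` regarded among all permutations. -/
abbrev amb (M : Subgroup (alternatingGroup α)) : Subgroup (Perm α) :=
  M.map (alternatingGroup α).subtype

theorem conj_viaEmbedding {β : Type*} (σ : Perm α) (g : Perm β) (ι : β ↪ α) :
    σ * g.viaEmbedding ι * σ⁻¹ = g.viaEmbedding (ι.trans σ.toEmbedding) := by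
  ext x
  obtain ⟨y, rfl⟩ := σ.surjective x
  rw [mul_apply, mul_apply, Perm.coe_inv, Equiv.symm_apply_apply]
  by_cases hy : y ∈ Set.range ι
  · obtain ⟨z, rfl⟩ := hy
    rw [viaEmbedding_apply, show σ (ι z) = (ι.trans σ.toEmbedding) z from rfl, viaEmbedding_apply]
    rfl
  · rw [viaEmbedding_apply_of_notMem _ _ _ hy, viaEmbedding_apply_of_notMem]
    rintro ⟨z, hz⟩
    exact hy ⟨z, σ.injective hz⟩

/-- Copies of a small `p`-group on disjoint sets lie in a Hall subgroup. -/
theorem exists_blocks {p : ℕ} (hp : p.Prime) (hpπ : p ∈ π) {M : Subgroup (alternatingGroup α)}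
    (hM : Cfsg.IsPiHall π M) {r : ℕ} (G0 : Subgroup (Perm (Fin r))) (hG0 : IsPGroup p G0)
    (heven : G0 ≤ alternatingGroup (Fin r)) :
    ∃ e : Fin (Fintype.card α / r) × Fin r ↪ α, ∀ i, ∀ g ∈ G0,
      g.viaEmbedding ((Function.Embedding.sectR i (Fin r)).trans e) ∈ amb M := by
  classical
  set k := Fintype.card α / r
  obtain ⟨e0⟩ : Nonempty (Fin k × Fin r ↪ α) := Function.Embedding.nonempty_of_card_le (by
    rw [Fintype.card_prod, Fintype.card_fin, Fintype.card_fin]; exact Nat.div_mul_le_self _ _)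
  let Φ : (Fin k → G0) →* Perm α :=
    (viaEmbeddingHom e0).comp
      { toFun := fun f => Equiv.prodCongrRight fun i => (f i : Perm (Fin r))
        map_one' := Equiv.ext fun x => rfl
        map_mul' := fun f g => Equiv.ext fun x => rfl }
  have hsign : ∀ f, Φ f ∈ alternatingGroup α := fun f => by
    show Equiv.Perm.sign (Perm.viaEmbedding (Equiv.prodCongrRight fun i => (f i : Perm (Fin r))) e0) = 1
    rw [viaEmbedding, sign_extendDomain, sign_prodCongrRight]
    exact Finset.prod_eq_one fun i _ => heven (f i).2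
  let Q := (Φ.codRestrict (alternatingGroup α) hsign).range
  haveI := Fact.mk hp
  obtain ⟨a, ha⟩ := IsPGroup.iff_card.1 hG0
  have hQ : IsPGroup p Q := by
    rintro ⟨_, f, rfl⟩
    refine ⟨a, Subtype.ext ?_⟩
    rw [SubgroupClass.coe_pow, ← map_pow, show f ^ p ^ a = 1 from funext fun i => by
      rw [Pi.pow_apply, ← ha]; exact pow_card_eq_one', map_one]
    rfl
  obtain ⟨σ, hσ⟩ := exists_conj_le hM hp hpπ hQ
  refine ⟨e0.trans (σ : Perm α).toEmbedding, fun i g hg => ?_⟩
  have h1 := hσ _ ⟨Pi.mulSingle i ⟨g, hg⟩, rfl⟩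
  have hΦ : Φ (Pi.mulSingle i ⟨g, hg⟩) = g.viaEmbedding ((Function.Embedding.sectR i (Fin r)).trans e0) := by
    ext x
    show Perm.viaEmbedding (Equiv.prodCongrRight fun j => ((Pi.mulSingle i ⟨g, hg⟩ : Fin k → G0) j : Perm (Fin r))) e0 x = _
    by_cases hx : x ∈ Set.range e0
    · obtain ⟨⟨j, y⟩, rfl⟩ := hx
      rw [viaEmbedding_apply]
      by_cases hji : j = i
      · subst hji
        rw [show e0 (j, y) = ((Function.Embedding.sectR j (Fin r)).trans e0) y from rfl, viaEmbedding_apply]
        simp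
      · rw [viaEmbedding_apply_of_notMem g _ (e0 (j, y))]
        · simp [Pi.mulSingle_eq_of_ne hji]
        · rintro ⟨z, hz⟩
          exact hji (congrArg Prod.fst (e0.injective hz)).symm
    · rw [viaEmbedding_apply_of_notMem _ _ _ hx, viaEmbedding_apply_of_notMem]
      rintro ⟨z, rfl⟩
      exact hx ⟨_, rfl⟩
  refine ⟨_, h1, ?_⟩
  show (σ : Perm α) * Φ (Pi.mulSingle i ⟨g, hg⟩) * (σ : Perm α)⁻¹ = _
  rw [hΦ, conj_viaEmbedding]
  rfl

theorem viaEmbedding_support {β : Type*} [Fintype β] [DecidableEq β] (g : Perm β) (ι : β ↪ α) :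
    (g.viaEmbedding ι).support = g.support.map ι := by
  ext x
  rw [mem_support, Finset.mem_map]
  by_cases hx : x ∈ Set.range ι
  · obtain ⟨z, rfl⟩ := hx
    rw [viaEmbedding_apply]
    exact ⟨fun h => ⟨z, mem_support.2 fun e => h (congrArg ι e), rfl⟩,
      fun ⟨z', hz', e⟩ h => mem_support.1 hz' (by rw [ι.injective e]; exact ι.injective h)⟩
  · rw [viaEmbedding_apply_of_notMem _ _ _ hx]
    exact ⟨fun h => absurd rfl h, fun ⟨z, _, e⟩ => absurd ⟨z, e⟩ hx⟩

theorem exists_block_meeting {r : ℕ} (hr : 0 < r) (e : Fin (Fintype.card α / r) × Fin r ↪ α)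
    (S : Finset α) (hS : Fintype.card α % r < S.card) :
    ∃ i j, e (i, j) ∈ S := by
  by_contra h
  push Not at h
  have hd : Disjoint (Finset.univ.map e) S := Finset.disjoint_left.2 fun x hx => by
    obtain ⟨⟨i, j⟩, -, rfl⟩ := Finset.mem_map.1 hx
    exact h i j
  have h1 := Finset.card_le_univ ((Finset.univ.map e) ∪ S)
  rw [Finset.card_union_of_disjoint hd, Finset.card_map, Finset.card_univ, Fintype.card_prod, Fintype.card_fin,
    Fintype.card_fin] at h1
  have := Nat.div_add_mod (Fintype.card α) r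
  rw [mul_comm r] at this
  omega

/-- Enough `p`-cycles. -/
theorem exists_cycle_meeting {p : ℕ} (hp : p.Prime) (hp2 : p ≠ 2) (hpπ : p ∈ π)
    {M : Subgroup (alternatingGroup α)} (hM : Cfsg.IsPiHall π M) (S : Finset α)
    (hS : Fintype.card α % p < S.card) :
    ∃ g ∈ amb M, g.IsCycle ∧ g.support.card = p ∧ ∃ x ∈ S, x ∈ g.support := by
  have hp3 : 2 ≤ p := hp.two_le
  have hrot : orderOf (finRotate p) = p := by
    rw [(isCycle_finRotate_of_le hp3).orderOf, support_finRotate_of_le hp3, Finset.card_univ, Fintype.card_fin]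
  obtain ⟨e, he⟩ := exists_blocks hp hpπ hM (Subgroup.zpowers (finRotate p))
    (IsPGroup.of_card (n := 1) (by rw [Nat.card_zpowers, hrot, pow_one]))
    (Subgroup.zpowers_le.2 (by
      rw [mem_alternatingGroup, show p = p - 1 + 1 by omega, sign_finRotate]
      exact (hp.even_sub_one hp2).neg_one_pow))
  obtain ⟨i, j, hij⟩ := exists_block_meeting hp.pos e S hS
  have hsupp : ((finRotate p).viaEmbedding ((Function.Embedding.sectR i (Fin p)).trans e)).support =
      Finset.univ.map ((Function.Embedding.sectR i (Fin p)).trans e) := by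
    rw [viaEmbedding_support, support_finRotate_of_le hp3]
  have hordc : orderOf ((finRotate p).viaEmbedding ((Function.Embedding.sectR i (Fin p)).trans e)) = p := by
    rw [← viaEmbeddingHom_apply, orderOf_injective _ (viaEmbeddingHom_injective _), hrot]
  have hsc : ((finRotate p).viaEmbedding ((Function.Embedding.sectR i (Fin p)).trans e)).support.card = p := by
    rw [hsupp, Finset.card_map, Finset.card_univ, Fintype.card_fin]
  refine ⟨_, he i _ (Subgroup.mem_zpowers _), isCycle_of_prime_order (hordc.symm ▸ hp) (by rw [hsc, hordc]; omega),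
    hsc, _, hij, ?_⟩
  rw [hsupp]
  exact Finset.mem_map.2 ⟨j, Finset.mem_univ j, rfl⟩

/-- The four-group on four points. -/
def klein : Subgroup (Perm (Fin 4)) where
  carrier := {g | g * g = 1 ∧ Perm.sign g = 1}
  mul_mem' := by
    have : ∀ a b : Perm (Fin 4), (a * a = 1 ∧ Perm.sign a = 1) → (b * b = 1 ∧ Perm.sign b = 1) →
        (a * b) * (a * b) = 1 ∧ Perm.sign (a * b) = 1 := by decide +kernel
    exact fun {a b} ha hb => this a b ha hb
  one_mem' := by simp
  inv_mem' := fun {a} ha => by
    show a⁻¹ * a⁻¹ = 1 ∧ Perm.sign a⁻¹ = 1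
    rw [← mul_inv_rev, ha.1, inv_one, Perm.sign_inv]
    exact ⟨rfl, ha.2⟩

/-- A four-set carrying a four-group inside `M`. -/
def IsQuad (M : Subgroup (Perm α)) (X : Finset α) : Prop :=
  X.card = 4 ∧ ∀ a b c d : α, a ∈ X → b ∈ X → c ∈ X → d ∈ X → [a, b, c, d].Nodup → swap a b * swap c d ∈ M

theorem IsQuad.image {M : Subgroup (Perm α)} {X : Finset α} (hX : IsQuad M X) {g : Perm α} (hg : g ∈ M) :
    IsQuad M (X.image g) := by
  refine ⟨by rw [Finset.card_image_of_injective _ g.injective, hX.1], ?_⟩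
  intro a b c d ha hb hc hd hn
  obtain ⟨a, ha', rfl⟩ := Finset.mem_image.1 ha
  obtain ⟨b, hb', rfl⟩ := Finset.mem_image.1 hb
  obtain ⟨c, hc', rfl⟩ := Finset.mem_image.1 hc
  obtain ⟨d, hd', rfl⟩ := Finset.mem_image.1 hd
  have h := hX.2 a b c d ha' hb' hc' hd' (List.Nodup.of_map g hn)
  rw [show swap (g a) (g b) * swap (g c) (g d) = g * (swap a b * swap c d) * g⁻¹ by
    rw [swap_apply_apply, swap_apply_apply]; group]
  exact mul_mem (mul_mem hg h) (inv_mem hg)

theorem viaEmbedding_swap {β : Type*} [DecidableEq β] (ι : β ↪ α) (i j : β) :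
    (swap i j).viaEmbedding ι = swap (ι i) (ι j) := by
  ext x
  by_cases hx : x ∈ Set.range ι
  · obtain ⟨z, rfl⟩ := hx
    rw [viaEmbedding_apply, ι.injective.swap_apply]
  · rw [viaEmbedding_apply_of_notMem _ _ _ hx, swap_apply_of_ne_of_ne] <;>
      exact fun h => hx (h ▸ ⟨_, rfl⟩)

theorem exists_quad_meeting (h2 : 2 ∈ π) {M : Subgroup (alternatingGroup α)} (hM : Cfsg.IsPiHall π M)
    (S : Finset α) (hS : Fintype.card α % 4 < S.card) :
    ∃ X, IsQuad (amb M) X ∧ ∃ x ∈ X, x ∈ S := by
  haveI : Fact (Nat.Prime 2) := ⟨Nat.prime_two⟩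
  obtain ⟨e, he⟩ := exists_blocks Nat.prime_two h2 hM klein
    (fun g => ⟨1, Subtype.ext (by rw [pow_one, SubgroupClass.coe_pow, pow_two]; exact g.2.1)⟩)
    (fun g hg => mem_alternatingGroup.2 hg.2)
  obtain ⟨i, j, hij⟩ := exists_block_meeting (by norm_num) e S hS
  set ι := (Function.Embedding.sectR i (Fin 4)).trans e
  refine ⟨Finset.univ.map ι, ⟨by simp, ?_⟩, ι j, Finset.mem_map_of_mem _ (Finset.mem_univ j), hij⟩
  intro a b c d ha hb hc hd hn
  obtain ⟨a, -, rfl⟩ := Finset.mem_map.1 ha
  obtain ⟨b, -, rfl⟩ := Finset.mem_map.1 hb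
  obtain ⟨c, -, rfl⟩ := Finset.mem_map.1 hc
  obtain ⟨d, -, rfl⟩ := Finset.mem_map.1 hd
  have key : ∀ a b c d : Fin 4, [a, b, c, d].Nodup →
      (swap a b * swap c d) * (swap a b * swap c d) = 1 ∧ Perm.sign (swap a b * swap c d) = 1 := by decide +kernel
  have h := he i _ (show swap a b * swap c d ∈ klein from key a b c d (List.Nodup.of_map ι hn))
  rwa [← viaEmbeddingHom_apply, map_mul, viaEmbeddingHom_apply, viaEmbeddingHom_apply, viaEmbedding_swap,
    viaEmbedding_swap] at h

theorem amb_card (M : Subgroup (alternatingGroup α)) : Nat.card (amb M) = Nat.card M :=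
  Subgroup.card_map_of_injective (Subgroup.subtype_injective _)

theorem three_dvd_of_points {M : Subgroup (Perm α)} {k : ℕ} (w : Fin k → α) (hw : Function.Injective w)
    (a b c d a' b' c' d' : Fin k)
    (h1 : swap (w a) (w b) * swap (w c) (w d) ∈ M) (h2 : swap (w a') (w b') * swap (w c') (w d') ∈ M)
    (hy : ((swap a b * swap c d * (swap a' b' * swap c' d')) ^ 2) ^ 3 = 1 ∧
      (swap a b * swap c d * (swap a' b' * swap c' d')) ^ 2 ≠ 1) : 3 ∣ Nat.card M := by
  let φ := viaEmbeddingHom (⟨w, hw⟩ : Fin k ↪ α)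
  set y := (swap a b * swap c d * (swap a' b' * swap c' d')) ^ 2 with hydef
  have hmem : φ y ∈ M := by
    rw [hydef, map_pow]
    refine pow_mem ?_ 2
    simp only [φ, map_mul, viaEmbeddingHom_apply, viaEmbedding_swap]
    exact mul_mem h1 h2
  haveI : Fact (Nat.Prime 3) := ⟨Nat.prime_three⟩
  have : orderOf (⟨φ y, hmem⟩ : M) = 3 := by
    rw [← Subgroup.orderOf_coe, orderOf_injective φ (viaEmbeddingHom_injective _)]
    exact orderOf_eq_prime hy.1 hy.2
  exact this ▸ _root_.orderOf_dvd_natCard _

/-- Two four-sets meet trivially when there is no element of order three. -/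
theorem quad_inter {M : Subgroup (Perm α)} (h3 : ¬ 3 ∣ Nat.card M) {X Y : Finset α}
    (hX : IsQuad M X) (hY : IsQuad M Y) : Y = X ∨ Disjoint Y X := by
  classical
  have hle : (X ∩ Y).card ≤ 4 := hX.1 ▸ Finset.card_le_card Finset.inter_subset_left
  have hXY : (X \ Y).card = 4 - (X ∩ Y).card := by
    have := Finset.card_sdiff_add_card_inter X Y; rw [hX.1] at this; omega
  have hYX : (Y \ X).card = 4 - (X ∩ Y).card := by
    have := Finset.card_sdiff_add_card_inter Y X; rw [hY.1, Finset.inter_comm] at this; omega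
  interval_cases hk : (X ∩ Y).card
  · right
    rw [_root_.disjoint_comm, Finset.disjoint_iff_inter_eq_empty, ← Finset.card_eq_zero, hk]
  · exfalso
    obtain ⟨a, ha⟩ := Finset.card_eq_one.1 hk
    obtain ⟨b, c, d, hbc, hbd, hcd, hb⟩ := Finset.card_eq_three.1 hXY
    obtain ⟨e, f, g, hef, heg, hfg, he⟩ := Finset.card_eq_three.1 hYX
    have memI := Finset.ext_iff.1 ha
    have memX := Finset.ext_iff.1 hb
    have memY := Finset.ext_iff.1 he
    simp only [Finset.mem_inter, Finset.mem_sdiff, Finset.mem_insert, Finset.mem_singleton] at memI memX memY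
    have := (memI a).2 (by simp)
    have := (memX b).2 (by simp)
    have := (memX c).2 (by simp)
    have := (memX d).2 (by simp)
    have := (memY e).2 (by simp)
    have := (memY f).2 (by simp)
    have := (memY g).2 (by simp)
    have hw : Function.Injective ![a, b, c, d, e, f, g] := by
      rw [← List.nodup_ofFn]; simp; grind
    refine h3 (three_dvd_of_points _ hw 0 1 2 3 0 4 5 6 ?_ ?_ (by decide +kernel))
    · exact hX.2 _ _ _ _ (by simp; grind) (by simp; grind) (by simp; grind) (by simp; grind) (by simp; grind)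
    · exact hY.2 _ _ _ _ (by simp; grind) (by simp; grind) (by simp; grind) (by simp; grind) (by simp; grind)
  · exfalso
    obtain ⟨a, b, hab, ha⟩ := Finset.card_eq_two.1 hk
    obtain ⟨c, d, hcd, hb⟩ := Finset.card_eq_two.1 hXY
    obtain ⟨e, f, hef, he⟩ := Finset.card_eq_two.1 hYX
    have memI := Finset.ext_iff.1 ha
    have memX := Finset.ext_iff.1 hb
    have memY := Finset.ext_iff.1 he
    simp only [Finset.mem_inter, Finset.mem_sdiff, Finset.mem_insert, Finset.mem_singleton] at memI memX memY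
    have := (memI a).2 (by simp)
    have := (memI b).2 (by simp)
    have := (memX c).2 (by simp)
    have := (memX d).2 (by simp)
    have := (memY e).2 (by simp)
    have := (memY f).2 (by simp)
    have hw : Function.Injective ![a, b, c, d, e, f] := by
      rw [← List.nodup_ofFn]; simp; grind
    have h1 : swap a c * swap b d ∈ M :=
      hX.2 _ _ _ _ (by grind) (by grind) (by grind) (by grind) (by simp; grind)
    have h2 : swap a e * swap b f ∈ M :=
      hY.2 _ _ _ _ (by grind) (by grind) (by grind) (by grind) (by simp; grind)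
    exact h3 (three_dvd_of_points _ hw 0 2 1 3 0 4 1 5 h1 h2 (by decide +kernel))
  · exfalso
    obtain ⟨a, b, c, hab, hac, hbc, ha⟩ := Finset.card_eq_three.1 hk
    obtain ⟨d, hb⟩ := Finset.card_eq_one.1 hXY
    obtain ⟨e, he⟩ := Finset.card_eq_one.1 hYX
    have memI := Finset.ext_iff.1 ha
    have memX := Finset.ext_iff.1 hb
    have memY := Finset.ext_iff.1 he
    simp only [Finset.mem_inter, Finset.mem_sdiff, Finset.mem_insert, Finset.mem_singleton] at memI memX memY
    have := (memI a).2 (by simp)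
    have := (memI b).2 (by simp)
    have := (memI c).2 (by simp)
    have := (memX d).2 (by simp)
    have := (memY e).2 (by simp)
    have h1 : swap a b * swap c d ∈ M :=
      hX.2 _ _ _ _ (by grind) (by grind) (by grind) (by grind) (by simp; grind)
    have h2 : swap a b * swap c e ∈ M :=
      hY.2 _ _ _ _ (by grind) (by grind) (by grind) (by grind) (by simp; grind)
    haveI : Fact (Nat.Prime 3) := ⟨Nat.prime_three⟩
    have h4 : swap c d * swap c e ∈ M := by
      have := mul_mem h1 h2
      rwa [show swap a b * swap c d * (swap a b * swap c e) = swap c d * swap c e from by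
        ext x; simp only [mul_apply, swap_apply_def]; grind] at this
    have : orderOf (⟨_, h4⟩ : M) = 3 := by
      rw [← Subgroup.orderOf_coe]
      exact (isThreeCycle_swap_mul_swap_same (by grind) (by grind) (by grind)).orderOf
    exact h3 (this ▸ _root_.orderOf_dvd_natCard _)
  · left
    have hI : X ∩ Y = X := Finset.eq_of_subset_of_card_le Finset.inter_subset_left (by rw [hk, hX.1])
    have hXs : X ⊆ Y := fun x hx => Finset.mem_of_mem_inter_right (hI.symm ▸ hx)
    exact (Finset.eq_of_subset_of_card_le hXs (by rw [hX.1, hY.1])).symm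

/-- No Hall subgroup when `2, q ∈ π` and `3 ∉ π`. -/
theorem false_of_two_not_three (h2 : 2 ∈ π) (h3 : 3 ∉ π) {q : ℕ} (hq : q.Prime) (hq5 : 5 ≤ q) (hqπ : q ∈ π)
    (hqn : q ≤ Fintype.card α) {M : Subgroup (alternatingGroup α)} (hM : Cfsg.IsPiHall π M) : False := by
  have h3M : ¬ 3 ∣ Nat.card (amb M) := fun h => h3 (hM.1 3 Nat.prime_three (amb_card M ▸ h))
  obtain ⟨c, hcM, hcyc, hcard, -⟩ := exists_cycle_meeting hq (by omega) hqπ hM Finset.univ (by
    rw [Finset.card_univ]; exact (Nat.mod_lt _ hq.pos).trans_le hqn)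
  obtain ⟨X, hX, a, haX, hac⟩ := exists_quad_meeting h2 hM c.support (by
    have := Nat.mod_lt (Fintype.card α) (show 0 < 4 by norm_num); omega)
  rcases cycle_block hq hcyc hcard X (fun i => quad_inter h3M hX (hX.image (pow_mem hcM i))) haX hac with h | h
  · have := Finset.card_le_card h; rw [hcard, hX.1] at this; omega
  · have := hX.1; rw [h, Finset.card_singleton] at this; omega

theorem card_orbit_dvd {G β : Type*} [Group G] [MulAction G β] (b : β) :
    Nat.card (orbit G b) ∣ Nat.card G := by
  rw [Nat.card_coe_set_eq, ← index_stabilizer]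
  exact Subgroup.index_dvd_card _

/-- No transitive group of odd order of degree `p + 2` with a `p`-cycle. -/
theorem false_of_twin {β : Type*} [Fintype β] [DecidableEq β] {p : ℕ} (hp2 : Odd p) (K : Subgroup (Perm β))
    (hodd : Odd (Nat.card K)) (htr : IsPretransitive K β) (hcard : Fintype.card β = p + 2)
    {d : Perm β} (hd : d ∈ K) (hdc : d.IsCycle) (hdp : d.support.card = p) : False := by
  classical
  obtain ⟨a, b, hab, hfix⟩ := Finset.card_eq_two.1 (show d.supportᶜ.card = 2 by
    rw [Finset.card_compl, hcard, hdp]; omega)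
  have hmemfix : ∀ x, d x = x ↔ x = a ∨ x = b := fun x => by
    have := Finset.ext_iff.1 hfix x
    simpa [mem_support] using this
  have hda : d a = a := (hmemfix a).2 (Or.inl rfl)
  have hdb : d b = b := (hmemfix b).2 (Or.inr rfl)
  have hfixb : ∀ g : K, g • a = a → g • b = b := by
    intro g hg
    by_contra hne
    set S := stabilizer K a
    have hy : g • b ∈ d.support := mem_support.2 fun h => by
      rcases (hmemfix _).1 h with h' | h'
      · exact hab ((MulAction.injective g) (hg.trans h'.symm))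
      · exact hne h'
    have hsub : ({a}ᶜ : Set β) ⊆ orbit S b := by
      intro x hx
      by_cases hxb : x = b
      · rw [hxb]; exact mem_orbit_self b
      have hxs : x ∈ d.support := mem_support.2 fun h => by
        rcases (hmemfix _).1 h with h' | h'
        · exact hx h'
        · exact hxb h'
      obtain ⟨i, hi⟩ := hdc.sameCycle (mem_support.1 hy) (mem_support.1 hxs)
      refine ⟨⟨(⟨d, hd⟩ : K) ^ i * g, mem_stabilizer_iff.2 ?_⟩, ?_⟩
      · rw [mul_smul, hg]
        exact zpow_mem (show (⟨d, hd⟩ : K) ∈ stabilizer K a from hda) i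
      · show (((⟨d, hd⟩ : K) ^ i * g : K) : Perm β) b = x
        rw [Subgroup.coe_mul, Subgroup.coe_zpow, mul_apply]
        exact hi
    have horb : orbit S b = ({a}ᶜ : Set β) := by
      refine Set.Subset.antisymm ?_ hsub
      rintro x ⟨s, rfl⟩ (hx : (s : K) • b = a)
      exact hab ((MulAction.injective (s : K)) ((mem_stabilizer_iff.1 s.2).trans hx.symm))
    have h1 : Nat.card (orbit S b) ∣ Nat.card K := (card_orbit_dvd b).trans (Subgroup.card_subgroup_dvd_card S)
    rw [horb, Nat.card_coe_set_eq, Set.ncard_compl, Set.ncard_singleton, Nat.card_eq_fintype_card, hcard] at h1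
    obtain ⟨c, hc⟩ := h1
    rw [hc, Nat.odd_mul] at hodd
    obtain ⟨⟨u, hu⟩, -⟩ := hodd
    obtain ⟨v, hv⟩ := hp2
    omega
  obtain ⟨g, hg⟩ := exists_smul_eq K a b
  -- stabilisers agree
  have hst : stabilizer K a = stabilizer K b := by
    refine Subgroup.eq_of_le_of_card_ge (fun s hs => hfixb s hs) (le_of_eq ?_)
    rw [← hg, stabilizer_smul_eq_stabilizer_map_conj]
    exact Subgroup.card_map_of_injective (MulAut.conj g).injective
  have hgb : g • b = a := by
    have hdst : (⟨d, hd⟩ : K) ∈ stabilizer K b := hdb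
    rw [← hg, stabilizer_smul_eq_stabilizer_map_conj] at hdst
    obtain ⟨h, hh, hh'⟩ := hdst
    have hhb : h • b = b := hfixb h hh
    have hfixgb : (⟨d, hd⟩ : K) • (g • b) = g • b := by
      rw [← hh']
      show (g * h * g⁻¹) • (g • b) = g • b
      rw [mul_smul, inv_smul_smul, mul_smul, hhb]
    rcases (hmemfix _).1 (hfixgb : d (g • b) = g • b) with h' | h'
    · exact h'
    · exact absurd ((MulAction.injective g) (hg.trans h'.symm)) hab
  have h2 : g ^ 2 ∈ stabilizer K a := by rw [mem_stabilizer_iff, pow_two, mul_smul, hg, hgb]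
  obtain ⟨k, hk⟩ := Odd.of_dvd_nat hodd (_root_.orderOf_dvd_natCard g)
  have h3 : g ∈ stabilizer K a := by
    have h4 : (g ^ 2) ^ (k + 1) = g := by
      rw [← pow_mul, show 2 * (k + 1) = orderOf g + 1 by omega, pow_succ, pow_orderOf_eq_one, one_mul]
    exact h4 ▸ pow_mem h2 _
  exact hab ((mem_stabilizer_iff.1 h3).symm.trans hg)

/-- No Hall subgroup for two odd primes in `π` and `2 ∉ π`. -/
theorem false_of_two_not_mem (h2 : 2 ∉ π) {p q : ℕ} (hp : p.Prime) (hq : q.Prime) (hpπ : p ∈ π) (hqπ : q ∈ π)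
    (hpq : p < q) (hqn : q ≤ Fintype.card α) {M : Subgroup (alternatingGroup α)} (hM : Cfsg.IsPiHall π M) :
    False := by
  classical
  have hpne : p ≠ 2 := fun h => h2 (h ▸ hpπ)
  have hqne : q ≠ 2 := fun h => h2 (h ▸ hqπ)
  have hpodd : Odd p := hp.odd_of_ne_two hpne
  have hqodd : Odd q := hq.odd_of_ne_two hqne
  obtain ⟨c, hcM, hcc, hcq, -⟩ := exists_cycle_meeting hq hqne hqπ hM Finset.univ (by
    rw [Finset.card_univ]; exact (Nat.mod_lt _ hq.pos).trans_le hqn)
  obtain ⟨d, hdM, hdc, hdp, x₀, hx₀c, hx₀d⟩ := exists_cycle_meeting hp hpne hpπ hM c.support (by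
    have := Nat.mod_lt (Fintype.card α) hp.pos; omega)
  set U := c.support ∪ d.support with hU
  have hsubU : ∀ f : Perm α, f.support ⊆ U → ∀ x, f x ∈ U ↔ x ∈ U := fun f hf x => by
    by_cases hx : x ∈ f.support
    · exact ⟨fun _ => hf hx, fun _ => hf (apply_mem_support.2 hx)⟩
    · rw [notMem_support.1 hx]
  let c' : Perm {x // x ∈ U} := c.subtypePerm (hsubU c Finset.subset_union_left)
  let d' : Perm {x // x ∈ U} := d.subtypePerm (hsubU d Finset.subset_union_right)
  have hofc : ofSubtype c' = c := ofSubtype_subtypePerm _ fun x hx => Finset.mem_union_left _ (mem_support.2 hx)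
  have hofd : ofSubtype d' = d := ofSubtype_subtypePerm _ fun x hx => Finset.mem_union_right _ (mem_support.2 hx)
  have hcard' : ∀ (f : Perm {x // x ∈ U}), (ofSubtype f).support.card = f.support.card := fun f => by
    rw [support_ofSubtype, Finset.card_map]; convert rfl
  have hc'q : c'.support.card = q := by rw [← hcard', hofc, hcq]
  have hd'p : d'.support.card = p := by rw [← hcard', hofd, hdp]
  have hc'c : c'.IsCycle := isCycle_of_prime_order
    (by rw [← orderOf_injective _ ofSubtype_injective c', hofc, hcc.orderOf, hcq]; exact hq)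
    (by rw [← orderOf_injective _ ofSubtype_injective c', hofc, hcc.orderOf, hcq, hc'q]; have := hq.pos; omega)
  have hd'c : d'.IsCycle := isCycle_of_prime_order
    (by rw [← orderOf_injective _ ofSubtype_injective d', hofd, hdc.orderOf, hdp]; exact hp)
    (by rw [← orderOf_injective _ ofSubtype_injective d', hofd, hdc.orderOf, hdp, hd'p]; have := hp.pos; omega)
  set K := Subgroup.closure ({c', d'} : Set (Perm {x // x ∈ U})) with hK
  have hc'K : c' ∈ K := Subgroup.subset_closure (Set.mem_insert _ _)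
  have hd'K : d' ∈ K := Subgroup.subset_closure (Set.mem_insert_of_mem _ rfl)
  have hodd : Odd (Nat.card K) := by
    have hle : K.map ofSubtype ≤ amb M := by
      rw [hK, MonoidHom.map_closure, Subgroup.closure_le]
      rintro _ ⟨f, rfl | hf, rfl⟩
      · rw [hofc]; exact hcM
      · rw [Set.mem_singleton_iff] at hf; subst hf; rw [hofd]; exact hdM
    have h1 := Subgroup.card_dvd_of_le hle
    rw [Subgroup.card_map_of_injective ofSubtype_injective, amb_card] at h1
    refine Odd.of_dvd_nat ?_ h1
    rw [Nat.odd_iff]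
    by_contra h
    exact h2 (hM.1 2 Nat.prime_two (by omega))
  haveI htr : IsPretransitive K {x // x ∈ U} := by
    let a : {x // x ∈ U} := ⟨x₀, Finset.mem_union_left _ hx₀c⟩
    have key : ∀ y : {x // x ∈ U}, ∃ k : K, k • a = y := by
      rintro ⟨y, hy⟩
      rcases Finset.mem_union.1 hy with h | h
      · obtain ⟨i, hi⟩ := hcc.sameCycle (mem_support.1 hx₀c) (mem_support.1 h)
        refine ⟨(⟨c', hc'K⟩ : K) ^ i, Subtype.ext ?_⟩
        show (((c' ^ i : Perm {x // x ∈ U})) a : α) = y
        rw [subtypePerm_zpow]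
        exact hi
      · obtain ⟨i, hi⟩ := hdc.sameCycle (mem_support.1 hx₀d) (mem_support.1 h)
        refine ⟨(⟨d', hd'K⟩ : K) ^ i, Subtype.ext ?_⟩
        show (((d' ^ i : Perm {x // x ∈ U})) a : α) = y
        rw [subtypePerm_zpow]
        exact hi
    refine ⟨fun y z => ?_⟩
    obtain ⟨k1, rfl⟩ := key y
    obtain ⟨k2, rfl⟩ := key z
    exact ⟨k2 * k1⁻¹, by rw [mul_smul, inv_smul_smul]⟩
  have hUcard : Fintype.card {x // x ∈ U} = U.card := Fintype.card_coe U
  have hUle : U.card ≤ p + q - 1 := by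
    have := Finset.card_union_add_card_inter c.support d.support
    have := Finset.card_pos.2 ⟨x₀, Finset.mem_inter.2 ⟨hx₀c, hx₀d⟩⟩
    rw [hcq, hdp] at *
    rw [hU]; omega
  have hUge : q ≤ U.card := hcq ▸ Finset.card_le_card Finset.subset_union_left
  have hUodd : Odd U.card := by
    refine Odd.of_dvd_nat hodd ?_
    have := card_orbit_dvd (G := K) (⟨x₀, Finset.mem_union_left _ hx₀c⟩ : {x // x ∈ U})
    rwa [orbit_eq_univ, Nat.card_coe_set_eq, Set.ncard_univ, Nat.card_eq_fintype_card, hUcard] at this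
  haveI hprim : IsPreprimitive K {x // x ∈ U} := by
    constructor
    intro B hB
    rcases B.eq_empty_or_nonempty with rfl | hne
    · exact Or.inl Set.subsingleton_empty
    obtain ⟨b, hb⟩ := hne
    obtain ⟨a, ha⟩ := Finset.card_pos.1 (hc'q ▸ hq.pos : 0 < c'.support.card)
    obtain ⟨g, hg⟩ := exists_smul_eq K b a
    have hgB : IsBlock K (g • B) := hB.translate g
    have hga : a ∈ g • B := ⟨b, hb, hg⟩
    have hblk : ∀ i : ℕ, (g • B).toFinset.image ⇑(c' ^ i) = (g • B).toFinset ∨
        Disjoint ((g • B).toFinset.image ⇑(c' ^ i)) (g • B).toFinset := by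
      intro i
      have e : ((g • B).toFinset.image ⇑(c' ^ i) : Set {x // x ∈ U}) = ((⟨c', hc'K⟩ : K) ^ i) • (g • B) := by
        rw [Finset.coe_image, Set.coe_toFinset]
        rfl
      rcases isBlock_iff_smul_eq_or_disjoint.1 hgB ((⟨c', hc'K⟩ : K) ^ i) with h | h
      · left
        rw [← Finset.coe_inj, e, Set.coe_toFinset, h]
      · right
        rw [← Finset.disjoint_coe, e, Set.coe_toFinset]
        exact h
    have hmul := hB.ncard_block_mul_ncard_orbit_eq ⟨b, hb⟩
    rw [Nat.card_eq_fintype_card, hUcard] at hmul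
    have hBcard : B.ncard = (g • B).toFinset.card := by
      rw [← Set.ncard_eq_toFinset_card', Set.ncard_smul_set]
    rcases cycle_block hq hc'c hc'q _ hblk (Set.mem_toFinset.2 hga) ha with h | h
    · right
      have h1 := Finset.card_le_card h
      rw [hc'q, ← hBcard] at h1
      refine Set.eq_of_subset_of_ncard_le (Set.subset_univ B) ?_ (Set.toFinite _)
      rw [Set.ncard_univ, Nat.card_eq_fintype_card, hUcard, ← hmul]
      rcases Nat.lt_or_ge ((orbit K B).ncard) 2 with h2' | h2'
      · calc B.ncard * (orbit K B).ncard ≤ B.ncard * 1 := Nat.mul_le_mul_left _ (by omega)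
          _ = B.ncard := mul_one _
      · have h5 := Nat.mul_le_mul_left B.ncard h2'
        omega
    · left
      exact Set.ncard_le_one_iff_subsingleton.1 (by rw [hBcard, h, Finset.card_singleton])
  rcases Nat.lt_or_ge U.card (p + 3) with h | h
  · have hp' := hpodd; have hq' := hqodd
    rw [Nat.odd_iff] at hp' hq'
    exact false_of_twin hpodd K hodd htr (by omega) hd'K hd'c hd'p
  · have hle := CfsgLib.JordanPrime.alternatingGroup_le_of_prime_cycle hprim hp (by omega) hd'c hd'p hd'K
    have h4 : 2 ∣ Nat.card (alternatingGroup {x // x ∈ U}) := by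
      haveI : Nontrivial {x // x ∈ U} := Fintype.one_lt_card_iff_nontrivial.1 (by omega)
      rw [nat_card_alternatingGroup, Nat.card_eq_fintype_card, hUcard]
      obtain ⟨e, he⟩ : 4 ∣ U.card.factorial :=
        (show 4 ∣ Nat.factorial 4 by decide).trans (Nat.factorial_dvd_factorial (by omega))
      exact ⟨e, by omega⟩
    have h5 := h4.trans (Subgroup.card_dvd_of_le hle)
    rw [Nat.odd_iff] at hodd
    omega

end Hall

end CfsgLib.HallSymm
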