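import Mathlib
import Cfsg.Prelude.Def_HallClasses
import Cfsg.Agent.Solvable.Hall

/-!
# The full Sylow property for degenerate sets of primes

If at most one prime of `π` divides the order, or all of them, then the group is a `D_π`-group;
a `D_π`-group has conjugate Hall subgroups containing all `π`-subgroups up to conjugacy.
-/

set_option autoImplicit false

namespace CfsgLib.HallSymm

variable {G : Type*} [Group G] [Finite G] {π : Set ℕ}

/-- At most one prime of `π` divides the order, or all prime divisors lie in `π`. -/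
def Degenerate (π : Set ℕ) (G : Type*) : Prop :=
  (∀ r s : ℕ, r.Prime → s.Prime → r ∈ π → s ∈ π → r ∣ Nat.card G → s ∣ Nat.card G → r = s) ∨
    ∀ r : ℕ, r.Prime → r ∣ Nat.card G → r ∈ π

theorem exists_maximal {K : Subgroup G} (hK : Cfsg.IsPiSubgroup π K) :
    ∃ L, K ≤ L ∧ Maximal (Cfsg.IsPiSubgroup π) L :=
  Finite.exists_le_maximal hK

theorem isDPi_of_degenerate (h : Degenerate π G) : Cfsg.IsDPiGroup π G := by
  intro H K hH hK
  rcases h with h | h
  · by_cases hp : ∃ p : ℕ, p.Prime ∧ p ∈ π ∧ p ∣ Nat.card G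
    · obtain ⟨p, hp, hpπ, hpd⟩ := hp
      haveI := Fact.mk hp
      have key : ∀ L : Subgroup G, Maximal (Cfsg.IsPiSubgroup π) L → ∃ P : Sylow p G, L = P := by
        intro L hL
        have hpg : IsPGroup p L := by
          refine IsPGroup.of_card (n := (Nat.card L).factorization p) ?_
          have h1 := Nat.eq_prime_pow_of_unique_prime_dvd (p := p) (Nat.card_pos (α := L)).ne'
            (fun {d} hd hdL => h d p hd hp (hL.1 d hd hdL) hpπ (hdL.trans L.card_subgroup_dvd_card) hpd)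
          rw [h1, hp.factorization_pow, Finsupp.single_eq_same]
        obtain ⟨P, hP⟩ := hpg.exists_le_sylow
        exact ⟨P, le_antisymm hP (hL.2 (CfsgLib.Solvable.piNat_of_isPGroup hp hpπ P.2) hP)⟩
      obtain ⟨P, rfl⟩ := key H hH
      obtain ⟨Q, rfl⟩ := key K hK
      obtain ⟨g, hg⟩ := MulAction.exists_smul_eq G P Q
      exact ⟨g, by rw [← hg, Sylow.coe_subgroup_smul]; rfl⟩
    · have key : ∀ L : Subgroup G, Cfsg.IsPiSubgroup π L → L = ⊥ := by
        intro L hL
        by_contra hne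
        obtain ⟨d, hd, hdL⟩ := Nat.exists_prime_and_dvd (fun e => hne (Subgroup.card_eq_one.1 e))
        exact hp ⟨d, hd, hL d hd hdL, hdL.trans L.card_subgroup_dvd_card⟩
      exact ⟨1, by rw [key H hH.1, key K hK.1]; simp⟩
  · have key : ∀ L : Subgroup G, Maximal (Cfsg.IsPiSubgroup π) L → L = ⊤ := fun L hL =>
      top_le_iff.1 (hL.2 (fun p hp hd => h p hp (Subgroup.card_top (G := G) ▸ hd)) le_top)
    refine ⟨1, ?_⟩
    rw [key H hH, key K hK]
    ext x
    simp

/-- A Hall subgroup is a maximal `π`-subgroup. -/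
theorem maximal_of_isPiHall {H : Subgroup G} (hH : Cfsg.IsPiHall π H) : Maximal (Cfsg.IsPiSubgroup π) H :=
  ⟨hH.1, fun _ hK hle => (CfsgLib.Solvable.eq_of_isPiHall_le hH hK hle).ge⟩

theorem exists_isPiHall_of_isDPi (h : Cfsg.IsDPiGroup π G) :
    ∃ H : Subgroup G, Cfsg.IsPiHall π H ∧
      ∀ K : Subgroup G, Cfsg.IsPiSubgroup π K → ∃ g : G, ∀ x ∈ K, g⁻¹ * x * g ∈ H := by
  obtain ⟨H, -, hH⟩ := exists_maximal (π := π) (K := (⊥ : Subgroup G))
    (fun p hp hd => absurd (Subgroup.card_bot (G := G) ▸ hd) hp.not_dvd_one)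
  have hconj : ∀ K : Subgroup G, Cfsg.IsPiSubgroup π K → ∃ g : G, ∀ x ∈ K, g⁻¹ * x * g ∈ H := by
    intro K hK
    obtain ⟨L, hKL, hL⟩ := exists_maximal hK
    obtain ⟨g, hg⟩ := h H L hH hL
    refine ⟨g, fun x hx => ?_⟩
    obtain ⟨y, hy, rfl⟩ := Subgroup.mem_map.1 (hg ▸ hKL hx)
    rw [MulEquiv.coe_toMonoidHom, MulAut.conj_apply]
    simpa [mul_assoc] using hy
  refine ⟨H, ⟨hH.1, fun p hp hpπ hd => ?_⟩, hconj⟩
  haveI := Fact.mk hp
  obtain ⟨P⟩ : Nonempty (Sylow p G) := inferInstance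
  obtain ⟨g, hg⟩ := hconj P (CfsgLib.Solvable.piNat_of_isPGroup hp hpπ P.2)
  have h1 : Nat.card P ∣ Nat.card H := by
    have hle : (P : Subgroup G).map (MulAut.conj g⁻¹).toMonoidHom ≤ H := by
      rintro _ ⟨x, hx, rfl⟩
      rw [MulEquiv.coe_toMonoidHom, MulAut.conj_apply, inv_inv]
      exact hg x hx
    have := Subgroup.card_dvd_of_le hle
    rwa [Subgroup.card_map_of_injective (f := (MulAut.conj g⁻¹).toMonoidHom) (MulAut.conj g⁻¹).injective] at this
  obtain ⟨e, he⟩ := hd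
  obtain ⟨f, hf⟩ := h1
  have h2 : p ^ ((Nat.card G).factorization p + 1) ∣ Nat.card G := by
    rw [pow_succ, ← P.card_eq_multiplicity]
    exact ⟨f * e, by rw [← H.card_mul_index, he, hf]; ring⟩
  have := (hp.pow_dvd_iff_le_factorization Nat.card_pos.ne').1 h2
  omega

theorem isCPi_of_isDPi (h : Cfsg.IsDPiGroup π G) : Cfsg.IsCPiGroup π G := by
  obtain ⟨H, hH, -⟩ := exists_isPiHall_of_isDPi h
  exact ⟨⟨H, hH⟩, fun A B hA hB => h A B (maximal_of_isPiHall hA) (maximal_of_isPiHall hB)⟩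

end CfsgLib.HallSymm
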