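import Mathlib

/-!
# Arithmetic for Hall subgroups of symmetric groups

Partition numbers without prime divisors below a bound `r`, when all parts are below `r`.
-/

set_option autoImplicit false

namespace CfsgLib.HallSymm

open Nat

/-- No prime below `r` divides `x`. -/
def FreeBelow (r x : ℕ) : Prop := ∀ s : ℕ, s.Prime → s < r → ¬ s ∣ x

theorem FreeBelow.of_dvd {r x y : ℕ} (h : FreeBelow r x) (hd : y ∣ x) : FreeBelow r y :=
  fun s hs hsr hsy => h s hs hsr (hsy.trans hd)

theorem FreeBelow.coprime {r x y : ℕ} (h : FreeBelow r x) (hy : ∀ s : ℕ, s.Prime → s ∣ y → s < r) :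
    y.Coprime x :=
  Nat.coprime_of_dvd fun k hk hky hkx => h k hk (hy k hk hky) hkx

theorem FreeBelow.coprime_lt {r x y : ℕ} (h : FreeBelow r x) (hy0 : y ≠ 0) (hy : y < r) :
    y.Coprime x :=
  h.coprime fun _ _ hd => (Nat.le_of_dvd (by omega) hd).trans_lt hy

theorem two_mul_choose (b : ℕ) (hb : 1 ≤ b) : (2 * b).choose b = 2 * (2 * b - 1).choose (b - 1) := by
  obtain ⟨c, rfl⟩ : ∃ c, b = c + 1 := ⟨b - 1, by omega⟩
  rw [show 2 * (c + 1) - 1 = 2 * c + 1 by omega, show c + 1 - 1 = c by omega,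
    show 2 * (c + 1) = 2 * c + 1 + 1 by omega, Nat.choose_succ_succ' (2 * c + 1) c, Nat.choose_symm_half]
  omega

theorem exists_two_pow_of_odd_choose : ∀ b : ℕ, 1 ≤ b → Odd ((2 * b - 1).choose (b - 1)) →
    ∃ k, b = 2 ^ k := by
  intro b
  induction b using Nat.strong_induction_on with
  | _ b ih =>
  intro hb hodd
  haveI : Fact (Nat.Prime 2) := ⟨Nat.prime_two⟩
  rcases Nat.even_or_odd' b with ⟨c, rfl | rfl⟩
  · have h := Choose.choose_modEq_choose_mod_mul_choose_div_nat (p := 2) (n := 2 * (2 * c) - 1) (k := 2 * c - 1)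
    rw [show (2 * (2 * c) - 1) % 2 = 1 by omega, show (2 * c - 1) % 2 = 1 by omega,
      show (2 * (2 * c) - 1) / 2 = 2 * c - 1 by omega, show (2 * c - 1) / 2 = c - 1 by omega,
      Nat.choose_self, one_mul] at h
    obtain ⟨k, hk⟩ := ih c (by omega) (by omega) (Nat.odd_iff.2 (by rw [← h]; exact Nat.odd_iff.1 hodd))
    exact ⟨k + 1, by rw [pow_succ, ← hk]; ring⟩
  · rcases Nat.eq_zero_or_pos c with rfl | hc
    · exact ⟨0, rfl⟩
    exfalso
    have h := Choose.choose_modEq_choose_mod_mul_choose_div_nat (p := 2) (n := 2 * (2 * c + 1) - 1) (k := 2 * c + 1 - 1)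
    rw [show (2 * (2 * c + 1) - 1) % 2 = 1 by omega, show (2 * c + 1 - 1) % 2 = 0 by omega,
      show (2 * (2 * c + 1) - 1) / 2 = 2 * c by omega, show (2 * c + 1 - 1) / 2 = c by omega,
      Nat.choose_zero_right, one_mul, two_mul_choose c hc] at h
    rw [Nat.ModEq, Nat.odd_iff.1 hodd, Nat.mul_mod_right] at h
    omega

theorem prime_dvd_choose_of_carry {b s e : ℕ} (hs : s.Prime) (he : 1 ≤ e) (hsb : s ^ e ≤ 2 * b)
    (h : s ^ e ≤ 2 * (b % s ^ e)) : s ∣ (2 * b).choose b := by
  refine Nat.dvd_of_factorization_pos ?_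
  have hb : 1 ≤ b := by
    rcases Nat.eq_zero_or_pos b with rfl | h'
    · have := Nat.pow_pos (n := e) hs.pos; omega
    · exact h'
  rw [Nat.factorization_choose hs (by omega) (Nat.lt_succ_self (log s (2 * b))), Ne, Finset.card_eq_zero]
  refine Finset.ne_empty_of_mem (a := e) (Finset.mem_filter.2 ⟨Finset.mem_Ico.2 ⟨he, ?_⟩, ?_⟩)
  · exact Nat.lt_succ_of_le (Nat.le_log_of_pow_le hs.one_lt hsb)
  · rw [show 2 * b - b = b by omega]
    omega

theorem exists_odd_prime_carry {k : ℕ} (hk : 3 ≤ k) :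
    ∃ s e : ℕ, s.Prime ∧ 3 ≤ s ∧ 1 ≤ e ∧ s ≤ 2 ^ k ∧ s ^ e ≤ 2 * 2 ^ k ∧ s ^ e ≤ 2 * (2 ^ k % s ^ e) := by
  have hbig : 8 ≤ 2 ^ k := (show 2 ^ 3 ≤ 2 ^ k from Nat.pow_le_pow_right (by norm_num) hk)
  rcases (show k % 2 = 1 ∨ k % 6 = 2 ∨ k % 6 = 4 ∨ k % 6 = 0 by omega) with h | h | h | h
  · refine ⟨3, 1, Nat.prime_three, le_rfl, le_rfl, by omega, by omega, ?_⟩
    rw [show k = 2 * (k / 2) + 1 by omega, pow_succ 2 (2 * (k / 2)), pow_mul 2 2, Nat.mul_mod, Nat.pow_mod]
    norm_num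
  · refine ⟨7, 1, by norm_num, by norm_num, le_rfl, by omega, by omega, ?_⟩
    rw [show k = 6 * (k / 6) + 2 by omega, pow_add, pow_mul, Nat.mul_mod, Nat.pow_mod]
    norm_num
  · refine ⟨3, 2, Nat.prime_three, le_rfl, by norm_num, by omega, by omega, ?_⟩
    rw [show k = 6 * (k / 6) + 4 by omega, pow_add, pow_mul, Nat.mul_mod, Nat.pow_mod]
    norm_num
  · obtain ⟨j, hj⟩ : ∃ j, k = 3 * j := ⟨k / 3, by omega⟩
    have hj1 : 1 ≤ j := by omega
    have hdvd : 2 ^ j + 1 ∣ 2 ^ k + 1 := by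
      have := (show Odd 3 by decide).nat_add_dvd_pow_add_pow (2 ^ j) 1
      rwa [one_pow, ← pow_mul, mul_comm j 3, ← hj] at this
    have h2j : 2 ≤ 2 ^ j := (Nat.le_self_pow (by omega) 2)
    have h2k : 2 ^ j + 1 ≤ 2 ^ k := by
      have : 2 ^ j < 2 ^ k := Nat.pow_lt_pow_right (by norm_num) (by omega)
      omega
    set s := (2 ^ j + 1).minFac
    have hs : s.Prime := Nat.minFac_prime (by omega)
    have hsd : s ∣ 2 ^ k + 1 := (Nat.minFac_dvd _).trans hdvd
    have hs3 : 3 ≤ s := by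
      rcases hs.eq_two_or_odd with h2 | h2
      · exfalso
        have h1 : 2 ∣ 2 ^ j + 1 := by
          have h0 : s ∣ 2 ^ j + 1 := Nat.minFac_dvd (2 ^ j + 1)
          rwa [h2] at h0
        have h3 : 2 ∣ 2 ^ j := dvd_pow_self 2 (by omega)
        omega
      · have := hs.two_le; omega
    have hsle : s ≤ 2 ^ j + 1 := Nat.minFac_le (by omega)
    refine ⟨s, 1, hs, hs3, le_rfl, by omega, by rw [pow_one]; omega, ?_⟩
    rw [pow_one]
    have hmod : (2 ^ k + 1) % s = 0 := Nat.mod_eq_zero_of_dvd hsd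
    rw [Nat.add_mod, Nat.one_mod_eq_one.2 (by omega)] at hmod
    have hlt := Nat.mod_lt (2 ^ k) hs.pos
    rcases Nat.lt_or_ge (2 ^ k % s + 1) s with h' | h'
    · rw [Nat.mod_eq_of_lt h'] at hmod; omega
    · omega

/-- `C(2b-1, b-1)` has no small prime only for `b = 4`. -/
theorem central {r b : ℕ} (hr5 : 5 ≤ r) (hb : 2 ≤ b) (hbr : b < r)
    (h : FreeBelow r ((2 * b - 1).choose (b - 1))) : b = 4 ∧ r = 5 := by
  obtain ⟨k, rfl⟩ := exists_two_pow_of_odd_choose b (by omega) (Nat.odd_iff.2 (by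
    have := h 2 Nat.prime_two (by omega)
    omega))
  rcases Nat.lt_or_ge k 3 with hk | hk
  · interval_cases k
    · omega
    · exact absurd (by decide) (h 3 Nat.prime_three (by omega))
    · refine ⟨rfl, ?_⟩
      by_contra hr
      exact absurd (by decide) (h 5 (by norm_num) (by omega))
  · exfalso
    obtain ⟨s, e, hs, hs3, he, hsb, hse, hc⟩ := exists_odd_prime_carry hk
    have h1 := prime_dvd_choose_of_carry hs he hse hc
    rw [two_mul_choose _ (by omega)] at h1
    rcases hs.dvd_mul.1 h1 with h2 | h2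
    · have := Nat.le_of_dvd two_pos h2; omega
    · exact h s hs (by omega) h2

/-- Two parts below `r` whose binomial coefficient has no prime below `r`. -/
theorem pair_cases {r A B : ℕ} (hr : r.Prime) (hr5 : 5 ≤ r) (hA : 1 ≤ A) (hAB : A < B) (hBr : B < r)
    (h : FreeBelow r ((A + B).choose A)) : (A = 1 ∧ B + 1 = r) ∨ (A = 3 ∧ B = 4 ∧ r = 5) := by
  set C := (A + B).choose A with hC
  have hB1 : B + 1 = r := by
    by_contra hne
    have e := Nat.choose_succ_right_eq (A + B) (A - 1)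
    rw [show A - 1 + 1 = A by omega, show A + B - (A - 1) = B + 1 by omega] at e
    have hd : B + 1 ∣ A := (h.coprime_lt (by omega) (by omega)).dvd_of_dvd_mul_left
      (k := B + 1) (m := C) (n := A) ⟨(A + B).choose (A - 1), by rw [mul_comm (B + 1), ← e, hC]⟩
    have := Nat.le_of_dvd (by omega) hd
    omega
  rcases Nat.lt_or_ge A 2 with hA1 | hA2
  · exact Or.inl ⟨by omega, hB1⟩
  right
  -- the sum is prime
  have hg : Nat.gcd A B ≤ A := Nat.gcd_le_left _ (by omega)
  have hn1 : A + B ∣ C * A := by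
    have e := Nat.add_one_mul_choose_eq (A + B - 1) (A - 1)
    rw [show A + B - 1 + 1 = A + B by omega, show A - 1 + 1 = A by omega] at e
    exact ⟨_, e.symm⟩
  have hn2 : A + B ∣ C * B := by
    have e := Nat.add_one_mul_choose_eq (A + B - 1) (B - 1)
    rw [show A + B - 1 + 1 = A + B by omega, show B - 1 + 1 = B by omega,
      ← Nat.choose_symm (show B ≤ A + B by omega), show A + B - B = A by omega] at e
    exact ⟨_, e.symm⟩
  have hn3 : A + B ∣ C * Nat.gcd A B := by rw [← Nat.gcd_mul_left]; exact Nat.dvd_gcd hn1 hn2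
  obtain ⟨X, hX⟩ : Nat.gcd A B ∣ A + B := Nat.dvd_add (Nat.gcd_dvd_left A B) (Nat.gcd_dvd_right A B)
  have hgpos : 0 < Nat.gcd A B := Nat.gcd_pos_of_pos_left _ (by omega)
  have hXC : X ∣ C := (Nat.mul_dvd_mul_iff_left hgpos).1 (by rw [← hX, mul_comm _ C]; exact hn3)
  have hX2 : 2 ≤ X := by
    by_contra hc
    interval_cases X <;> omega
  have hXr : r ≤ X.minFac := by
    by_contra hc
    exact h _ (Nat.minFac_prime (by omega)) (by omega) ((Nat.minFac_dvd X).trans hXC)
  have hXle : X.minFac ≤ X := Nat.minFac_le (by omega)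
  have hg1 : Nat.gcd A B = 1 := by
    by_contra hne
    have : 2 * X ≤ A + B := by rw [hX]; exact Nat.mul_le_mul_right X (by omega)
    omega
  rw [hg1, one_mul] at hX
  have hXp : X.Prime := by
    refine Nat.prime_def_minFac.2 ⟨hX2, ?_⟩
    by_contra hne
    obtain ⟨c, hc⟩ := Nat.minFac_dvd X
    rcases c with _ | _ | c
    · simp at hc; omega
    · rw [zero_add, mul_one] at hc; exact hne hc.symm
    · have : 2 * X.minFac ≤ X := by
        calc 2 * X.minFac = X.minFac * 2 := by ring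
          _ ≤ X.minFac * (c + 1 + 1) := Nat.mul_le_mul_left _ (by omega)
          _ = X := hc.symm
      omega
  have hnodd : (A + B) % 2 = 1 := by
    rcases hXp.eq_two_or_odd with h2 | h2 <;> omega
  have hrodd : r % 2 = 1 := hr.eq_two_or_odd.resolve_left (by omega)
  -- `A + 1` divides `B`
  obtain ⟨c, hc⟩ : A + 1 ∣ B := by
    have e := Nat.choose_succ_right_eq (A + B) A
    rw [show A + B - A = B by omega] at e
    exact (h.coprime_lt (by omega) (by omega)).dvd_of_dvd_mul_left ⟨(A + B).choose (A + 1), by rw [← e, mul_comm]⟩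
  -- `A + B - 1` divides `A * (A - 1)`
  have hn4 : A + B - 1 ∣ A * (A - 1) := by
    have e1 := Nat.add_one_mul_choose_eq (A + B - 1) (A - 1)
    have e2 := Nat.add_one_mul_choose_eq (A + B - 2) (A - 2)
    rw [show A + B - 1 + 1 = A + B by omega, show A - 1 + 1 = A by omega] at e1
    rw [show A + B - 2 + 1 = A + B - 1 by omega, show A - 2 + 1 = A - 1 by omega] at e2
    have e3 : C * (A * (A - 1)) = (A + B - 1) * ((A + B) * (A + B - 2).choose (A - 2)) := by
      rw [← mul_assoc, hC, ← e1, mul_assoc, ← e2]; ring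
    refine (h.coprime (y := A + B - 1) ?_).dvd_of_dvd_mul_left ⟨_, e3⟩
    intro s hs hsd
    rcases hs.eq_two_or_odd with h2 | h2
    · omega
    · have h2s : 2 * s ∣ A + B - 1 :=
        ((Nat.coprime_primes Nat.prime_two hs).2 (by omega)).mul_dvd_of_dvd_of_dvd (by omega) hsd
      have := Nat.le_of_dvd (by omega) h2s
      omega
  obtain ⟨u, hu⟩ := hn4
  have hu' : ((A : ℤ) * (A - 1)) = ((A : ℤ) + B - 1) * u := by
    have := congrArg (fun z : ℕ => (z : ℤ)) hu
    push_cast [Nat.cast_sub (show 1 ≤ A by omega), Nat.cast_sub (show 1 ≤ A + B by omega)] at this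
    linarith
  have hcB : (B : ℤ) = ((A : ℤ) + 1) * c := by exact_mod_cast hc
  have huA : (u : ℤ) < A := by nlinarith
  have hkey : ((A : ℤ) - 1) * ((A : ℤ) - u) = u * c * ((A : ℤ) + 1) := by
    rw [hcB] at hu'; linarith
  have hdv : ((A : ℤ) + 1) ∣ 2 * ((A : ℤ) - u) :=
    ⟨((A : ℤ) - u) - u * c, by linear_combination -hkey⟩
  obtain ⟨d, hd⟩ := hdv
  have hd1 : d = 1 := by
    have h1 : 0 < d := by nlinarith
    have h2 : d < 2 := by nlinarith
    omega
  rw [hd1, mul_one] at hd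
  have hc1 : (c : ℤ) = 1 := by
    have h1 : ((A : ℤ) + 1) * (((A : ℤ) - 1) * ((c : ℤ) - 1)) = 0 := by
      linear_combination ((A : ℤ) - 1 + (c : ℤ) * ((A : ℤ) + 1)) * hd - 2 * hkey
    rcases mul_eq_zero.1 h1 with h2 | h2
    · linarith
    rcases mul_eq_zero.1 h2 with h3 | h3
    · omega
    · linarith
  have hBA : B = A + 1 := by rw [hc1, mul_one] at hcB; omega
  have h5 := central hr5 (b := B) (by omega) hBr (by
    rw [show 2 * B - 1 = A + B by omega, show B - 1 = A by omega]; exact h)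
  omega

theorem factorization_eq_zero_of_le {X N s : ℕ} (hX : X ≠ 0) (hN : N ≠ 0)
    (h : (N * X).factorization s ≤ N.factorization s) : X.factorization s = 0 := by
  rw [Nat.factorization_mul hN hX, Finsupp.add_apply] at h
  omega

theorem multinomial_dvd {α : Type*} [DecidableEq α] (f : α → ℕ) {T S : Finset α} (h : T ⊆ S) :
    Nat.multinomial T f ∣ Nat.multinomial S f := by
  have h1 := Nat.multinomial_spec S f
  have h2 := Nat.multinomial_spec T f
  have h3 := Nat.multinomial_spec (S \ T) f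
  obtain ⟨c, hc⟩ := Nat.factorial_mul_factorial_dvd_factorial_add (∑ i ∈ S \ T, f i) (∑ i ∈ T, f i)
  rw [Finset.sum_sdiff h, ← h1, ← h2, ← h3, ← Finset.prod_sdiff h] at hc
  refine ⟨Nat.multinomial (S \ T) f * c, ?_⟩
  refine Nat.eq_of_mul_eq_mul_left (Nat.mul_pos (Finset.prod_pos (s := S \ T) fun i _ => (f i).factorial_pos)
    (Finset.prod_pos (s := T) fun i _ => (f i).factorial_pos)) ?_
  rw [hc]; ring

/-- The possible partitions. -/
theorem partition_cases {r n : ℕ} (hr : r.Prime) (hr5 : 5 ≤ r) (hrn : r ≤ n) (S : Finset ℕ) (m : ℕ → ℕ)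
    (hm : ∀ b ∈ S, 1 ≤ m b) (hb : ∀ b ∈ S, b < r ∧ (b = 1 ∨ 3 ≤ b)) (hone : 1 ∈ S → m 1 ≤ 2)
    (hn : ∑ b ∈ S, m b * b = n)
    (hv : ∀ s : ℕ, s.Prime → s < r →
      n.factorial.factorization s ≤ (∏ b ∈ S, b.factorial ^ m b * (m b).factorial).factorization s) :
    (n = r ∧ S = {1, r - 1} ∧ m 1 = 1 ∧ m (r - 1) = 1) ∨
      (n = 7 ∧ r = 5 ∧ S = {3, 4} ∧ m 3 = 1 ∧ m 4 = 1) ∨ (n = 8 ∧ r = 5 ∧ S = {4} ∧ m 4 = 2) := by
  classical
  set N := ∏ b ∈ S, b.factorial ^ m b * (m b).factorial with hN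
  set X := Nat.multinomial S (fun b => m b * b) * ∏ b ∈ S, Nat.uniformBell (m b) b with hX
  have hspec : N * X = n.factorial := by
    have h1 := Nat.multinomial_spec S (fun b => m b * b)
    rw [hn] at h1
    rw [← h1, hX, hN, ← mul_assoc, mul_comm (∏ b ∈ S, b.factorial ^ m b * (m b).factorial), mul_assoc,
      ← Finset.prod_mul_distrib, mul_comm]
    congr 1
    refine Finset.prod_congr rfl fun b hbS => ?_
    rw [← Nat.uniformBell_mul_eq (m b) (show b ≠ 0 by have := (hb b hbS).2; omega)]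
    ring
  have hX0 : X ≠ 0 := fun h => n.factorial_ne_zero (by rw [← hspec, h, mul_zero])
  have hN0 : N ≠ 0 := fun h => n.factorial_ne_zero (by rw [← hspec, h, zero_mul])
  have hfree : FreeBelow r X := fun s hs hsr hd => by
    have h1 := factorization_eq_zero_of_le hX0 hN0 (by rw [hspec]; exact hv s hs hsr)
    have h2 := hs.factorization_pos_of_dvd hX0 hd
    omega
  have hbell : ∀ b ∈ S, ∀ i < m b, FreeBelow r ((i * b + b - 1).choose (b - 1)) := fun b hbS i hi =>
    hfree.of_dvd (((Nat.uniformBell_eq (m b) b ▸ Finset.dvd_prod_of_mem _ (Finset.mem_range.2 hi)) :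
      (i * b + b - 1).choose (b - 1) ∣ Nat.uniformBell (m b) b).trans
        ((Finset.dvd_prod_of_mem (fun b => Nat.uniformBell (m b) b) hbS).trans (dvd_mul_left _ _)))
  have hmult : ∀ b ∈ S, m b = 1 ∨ (b = 1 ∧ m b = 2) ∨ (b = 4 ∧ m b = 2 ∧ r = 5) := by
    intro b hbS
    rcases Nat.lt_or_ge (m b) 2 with h | h
    · exact Or.inl (by have := hm b hbS; omega)
    rcases (hb b hbS).2 with rfl | hb3
    · exact Or.inr (Or.inl ⟨rfl, by have := hone hbS; omega⟩)
    have h1 := hbell b hbS 1 (by omega)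
    rw [show 1 * b + b - 1 = 2 * b - 1 by omega] at h1
    obtain ⟨rfl, rfl⟩ := central hr5 (by omega) (hb b hbS).1 h1
    refine Or.inr (Or.inr ⟨rfl, ?_, rfl⟩)
    by_contra h3
    exact absurd (show 3 ∣ (2 * 4 + 4 - 1).choose (4 - 1) by decide)
      (hbell 4 hbS 2 (by omega) 3 Nat.prime_three (by norm_num))
  have hpair : ∀ A ∈ S, ∀ B ∈ S, A < B →
      ((A = 1 ∧ B + 1 = r) ∨ (A = 3 ∧ B = 4 ∧ r = 5)) ∧ m A = 1 ∧ m B = 1 := by
    intro A hAS B hBS hAB
    have hsub : ({A, B} : Finset ℕ) ⊆ S := Finset.insert_subset hAS (Finset.singleton_subset_iff.2 hBS)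
    have h1 : FreeBelow r ((m A * A + m B * B).choose (m A * A)) := by
      refine hfree.of_dvd (dvd_trans ?_ ((multinomial_dvd (fun b => m b * b) hsub).trans (dvd_mul_right _ _)))
      rw [Nat.binomial_eq_choose hAB.ne]
    obtain ⟨hAr, hA1⟩ := hb A hAS
    obtain ⟨hBr, hB1⟩ := hb B hBS
    rcases hmult B hBS with hmB | ⟨rfl, hmB⟩ | ⟨rfl, hmB, hr'⟩
    · rcases hmult A hAS with hmA | ⟨rfl, hmA⟩ | ⟨rfl, hmA, hr'⟩
      · rw [hmA, hmB, one_mul, one_mul] at h1
        exact ⟨pair_cases hr hr5 (by omega) hAB hBr h1, hmA, hmB⟩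
      · exfalso
        rw [hmA, hmB, one_mul] at h1
        rcases Nat.lt_or_ge (2 * 1 + B) r with h2 | h2
        · obtain ⟨s, hs, hd⟩ := Nat.exists_prime_and_dvd (n := (2 * 1 + B).choose (2 * 1)) (by
            intro h3
            have : Nat.choose 3 2 ≤ (2 * 1 + B).choose 2 := Nat.choose_le_choose 2 (by omega)
            rw [show 2 * 1 = 2 by norm_num] at h3
            rw [show 2 * 1 = 2 by norm_num, h3] at this
            norm_num at this)
          exact h1 s hs (lt_of_le_of_lt (hs.dvd_factorial.1 (hd.trans ⟨_, ((Nat.choose_mul_factorial_mul_factorial (show 2 * 1 ≤ 2 * 1 + B by omega)).symm.trans (mul_assoc _ _ _))⟩)) h2) hd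
        · rw [show 2 * 1 = 2 by norm_num] at h1 h2
          rw [Nat.choose_two_right, show 2 + B - 1 = B + 1 by omega] at h1
          rcases Nat.even_or_odd' B with ⟨c, rfl | rfl⟩
          · have hd : c + 1 ∣ (2 + 2 * c) * (2 * c + 1) / 2 := ⟨2 * c + 1, by
              rw [show (2 + 2 * c) * (2 * c + 1) = 2 * ((c + 1) * (2 * c + 1)) by ring, Nat.mul_div_cancel_left _ two_pos]⟩
            have := h1.coprime_lt (y := c + 1) (by omega) (by omega)
            have := (Nat.gcd_eq_left hd).symm.trans this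
            omega
          · have hd : c + 1 ∣ (2 + (2 * c + 1)) * (2 * c + 1 + 1) / 2 := ⟨2 + (2 * c + 1), by
              rw [show (2 + (2 * c + 1)) * (2 * c + 1 + 1) = 2 * ((c + 1) * (2 + (2 * c + 1))) by ring, Nat.mul_div_cancel_left _ two_pos]⟩
            have := h1.coprime_lt (y := c + 1) (by omega) (by omega)
            have := (Nat.gcd_eq_left hd).symm.trans this
            omega
      · omega
    · omega
    · exfalso
      subst hr'
      have hA13 : A = 1 ∨ A = 3 := by omega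
      rcases hA13 with rfl | rfl
      · rcases hmult 1 hAS with hmA | ⟨-, hmA⟩ | ⟨h, -⟩
        · rw [hmA, hmB] at h1; exact absurd (by decide) (h1 3 Nat.prime_three (by norm_num))
        · rw [hmA, hmB] at h1; exact absurd (by decide) (h1 3 Nat.prime_three (by norm_num))
        · omega
      · rcases hmult 3 hAS with hmA | ⟨h, -⟩ | ⟨h, -⟩
        · rw [hmA, hmB] at h1; exact absurd (by decide) (h1 3 Nat.prime_three (by norm_num))
        · omega
        · omega
  have hne : S.Nonempty := by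
    rw [Finset.nonempty_iff_ne_empty]; rintro rfl
    rw [Finset.sum_empty] at hn; omega
  set B := S.max' hne with hB
  have hBS : B ∈ S := S.max'_mem hne
  by_cases hex : ∃ A ∈ S, A ≠ B
  · obtain ⟨A, hAS, hAB⟩ := hex
    have hAB' : A < B := lt_of_le_of_ne (S.le_max' A hAS) hAB
    have hSeq : S = {A, B} := by
      ext x
      simp only [Finset.mem_insert, Finset.mem_singleton]
      refine ⟨fun hx => ?_, ?_⟩
      · by_contra hc
        push Not at hc
        have hxB : x < B := lt_of_le_of_ne (S.le_max' x hx) hc.2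
        obtain ⟨c1, -⟩ := hpair A hAS B hBS hAB'
        obtain ⟨c2, -⟩ := hpair x hx B hBS hxB
        rcases lt_or_gt_of_ne hc.1 with h' | h'
        · obtain ⟨c3, -⟩ := hpair x hx A hAS h'; omega
        · obtain ⟨c3, -⟩ := hpair A hAS x hx h'; omega
      · rintro (rfl | rfl) <;> assumption
    obtain ⟨hcase, hmA, hmB⟩ := hpair A hAS B hBS hAB'
    rw [hSeq, Finset.sum_pair hAB'.ne, hmA, hmB, one_mul, one_mul] at hn
    rcases hcase with ⟨rfl, hB'⟩ | ⟨rfl, hB', rfl⟩
    · left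
      rw [show r - 1 = B by omega]
      exact ⟨by omega, hSeq, hmA, hmB⟩
    · right; left
      rw [hB'] at hSeq hmB
      exact ⟨by omega, rfl, hSeq, hmA, hmB⟩
  · push Not at hex
    have hSeq : S = {B} := Finset.eq_singleton_iff_unique_mem.2 ⟨hBS, hex⟩
    rw [hSeq, Finset.sum_singleton] at hn
    have hBr := (hb B hBS).1
    rcases hmult B hBS with h | ⟨h1, h2⟩ | ⟨h1, h2, h3⟩
    · rw [h, one_mul] at hn; omega
    · rw [h2, h1] at hn; omega
    · right; right
      rw [h2, h1] at hn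
      rw [h1] at hSeq h2
      exact ⟨by omega, h3, hSeq, h2⟩

end CfsgLib.HallSymm
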