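import Mathlib

/-!
# The stabiliser of a partition

For an equivalence relation on a finite set: the group of permutations preserving it, bounded by
the product of the factorials of class sizes and of their multiplicities.
-/

set_option autoImplicit false

namespace CfsgLib.HallSymm

open Equiv Equiv.Perm Nat

variable {α : Type*} [Fintype α] [DecidableEq α]

/-- The permutations preserving a function. -/
def fiberPerm {ι : Type*} (f : α → ι) : Subgroup (Perm α) where
  carrier := {g | f ∘ ⇑g = f}
  mul_mem' {a b} ha hb := by
    show f ∘ ⇑(a * b) = f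
    rw [coe_mul, ← Function.comp_assoc, ha, hb]
  one_mem' := rfl
  inv_mem' {a} ha := by
    funext x
    have := congrFun ha (a⁻¹ x)
    simp at this
    exact this.symm

theorem mem_fiberPerm {ι : Type*} {f : α → ι} {g : Perm α} : g ∈ fiberPerm f ↔ ∀ x, f (g x) = f x :=
  ⟨fun h x => congrFun h x, fun h => funext h⟩

theorem card_fiberPerm {ι : Type*} [DecidableEq ι] (f : α → ι) :
    Nat.card (fiberPerm f) = ∏ i ∈ Finset.univ.image f, (Finset.univ.filter fun a => f a = i).card.factorial := by
  rw [show Nat.card (fiberPerm f) = Nat.card {g : Perm α // f ∘ g = f} from rfl, Nat.card_eq_fintype_card,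
    DomMulAct.stabilizer_card' f]
  refine Finset.prod_congr rfl fun i _ => ?_
  rw [Fintype.card_subtype]

variable (r : Setoid α)

/-- The permutations preserving an equivalence relation. -/
def relStab : Subgroup (Perm α) where
  carrier := {g | ∀ a b, r (g a) (g b) ↔ r a b}
  mul_mem' {g h} hg hh a b := by rw [mul_apply, mul_apply, hg, hh]
  one_mem' a b := Iff.rfl
  inv_mem' {g} hg a b := by rw [← hg (g⁻¹ a) (g⁻¹ b)]; simp

theorem mem_relStab {g : Perm α} : g ∈ relStab r ↔ ∀ a b, r (g a) (g b) ↔ r a b := Iff.rfl

theorem fiberPerm_le_relStab : fiberPerm (Quotient.mk r) ≤ relStab r := fun g hg a b => by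
  rw [← Quotient.eq, ← Quotient.eq, mem_fiberPerm.1 hg, mem_fiberPerm.1 hg]

theorem swap_mem_relStab {a b : α} (h : r a b) : swap a b ∈ relStab r := by
  refine fiberPerm_le_relStab r (mem_fiberPerm.2 fun x => ?_)
  rcases eq_or_ne x a with rfl | hxa
  · rw [swap_apply_left]; exact Quotient.sound (Setoid.symm h)
  rcases eq_or_ne x b with rfl | hxb
  · rw [swap_apply_right]; exact Quotient.sound h
  · rw [swap_apply_of_ne_of_ne hxa hxb]

noncomputable local instance : Fintype (Quotient r) := Fintype.ofFinite _

open Classical in
/-- The size of a class. -/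
noncomputable def clsCard (q : Quotient r) : ℕ := (Finset.univ.filter fun a : α => Quotient.mk r a = q).card

open Classical in
/-- The number of classes of given size. -/
noncomputable def clsCount (b : ℕ) : ℕ := (Finset.univ.filter fun q => clsCard r q = b).card

/-- The action on the classes. -/
noncomputable def toQuot : relStab r →* Perm (Quotient r) where
  toFun g :=
    { toFun := Quotient.map (g : Perm α) fun a b h => (g.2 a b).2 h
      invFun := Quotient.map ((g : Perm α)⁻¹ : Perm α) fun a b h => ((g⁻¹).2 a b).2 h
      left_inv := fun q => Quotient.inductionOn q fun a => by simp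
      right_inv := fun q => Quotient.inductionOn q fun a => by simp }
  map_one' := Equiv.ext fun q => Quotient.inductionOn q fun a => rfl
  map_mul' g h := Equiv.ext fun q => Quotient.inductionOn q fun a => rfl

theorem toQuot_mk (g : relStab r) (a : α) :
    toQuot r g (Quotient.mk r a) = Quotient.mk r ((g : Perm α) a) := rfl

theorem ker_map_le : (toQuot r).ker.map (relStab r).subtype ≤ fiberPerm (Quotient.mk r) := by
  rintro _ ⟨g, hg, rfl⟩
  refine mem_fiberPerm.2 fun x => ?_
  have := DFunLike.congr_fun (MonoidHom.mem_ker.1 hg) (Quotient.mk r x)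
  rw [toQuot_mk] at this
  exact this

theorem range_le : (toQuot r).range ≤ fiberPerm (clsCard r) := by
  classical
  rintro _ ⟨g, rfl⟩
  refine mem_fiberPerm.2 fun q => Quotient.inductionOn q fun a => ?_
  rw [toQuot_mk]
  refine (Finset.card_bij (fun x _ => (g : Perm α) x) ?_ (fun _ _ _ _ h => (g : Perm α).injective h) ?_).symm
  · intro x hx
    simp only [Finset.mem_filter, Finset.mem_univ, true_and, Quotient.eq] at hx ⊢
    exact (g.2 x a).2 hx
  · intro y hy
    refine ⟨(g : Perm α).symm y, ?_, Equiv.apply_symm_apply _ _⟩
    simp only [Finset.mem_filter, Finset.mem_univ, true_and, Quotient.eq] at hy ⊢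
    exact (g.2 _ a).1 (by rw [Equiv.apply_symm_apply]; exact hy)

theorem card_relStab : Nat.card (relStab r) = Nat.card (toQuot r).range * Nat.card (toQuot r).ker := by
  rw [← Subgroup.index_ker, Subgroup.index_mul_card]

theorem card_fiber_mk [DecidableEq (Quotient r)] :
    Nat.card (fiberPerm (Quotient.mk r)) = ∏ q, (clsCard r q).factorial := by
  classical
  rw [card_fiberPerm, Finset.image_univ_of_surjective Quotient.mk_surjective]
  refine Finset.prod_congr rfl fun q _ => ?_
  rw [clsCard]
  congr 2
  ext a
  simp

open Classical in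
/-- The possible sizes. -/
noncomputable def clsSizes : Finset ℕ := Finset.univ.image (clsCard r)

theorem sum_clsCount : ∑ b ∈ clsSizes r, clsCount r b * b = Fintype.card α := by
  classical
  rw [← Finset.card_univ, Finset.card_eq_sum_card_fiberwise (t := Finset.univ) (f := Quotient.mk r)
    fun x _ => Finset.mem_univ _]
  refine Eq.trans ?_ (Finset.sum_comp (s := (Finset.univ : Finset (Quotient r))) (fun b => b) (clsCard r)).symm
  exact Finset.sum_congr rfl fun b _ => rfl

theorem one_le_clsCount {b : ℕ} (hb : b ∈ clsSizes r) : 1 ≤ clsCount r b := by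
  classical
  obtain ⟨q, -, rfl⟩ := Finset.mem_image.1 hb
  exact Finset.card_pos.2 ⟨q, by simp⟩

theorem clsCount_eq_zero {b : ℕ} (hb : b ∉ clsSizes r) : clsCount r b = 0 := by
  classical
  rw [clsCount, Finset.card_eq_zero, Finset.filter_eq_empty_iff]
  intro q _ h
  exact hb (Finset.mem_image.2 ⟨q, Finset.mem_univ q, h⟩)

/-- The bound on the order. -/
theorem card_relStab_dvd :
    Nat.card (relStab r) ∣ ∏ b ∈ clsSizes r, b.factorial ^ clsCount r b * (clsCount r b).factorial := by
  classical
  rw [card_relStab, Finset.prod_mul_distrib, mul_comm]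
  refine Nat.mul_dvd_mul ?_ ?_
  · have h1 := Subgroup.card_dvd_of_le (ker_map_le r)
    rw [Subgroup.card_map_of_injective (relStab r).subtype_injective, card_fiber_mk,
      Finset.prod_comp (fun b => b.factorial) (clsCard r)] at h1
    exact h1
  · have h1 := Subgroup.card_dvd_of_le (range_le r)
    rw [card_fiberPerm] at h1
    convert h1 using 3 with b hb <;> rfl

/-- A prime dividing the order is at most a class size or the number of classes. -/
theorem prime_dvd_card_relStab {s B : ℕ} (hs : s.Prime) (hd : s ∣ Nat.card (relStab r))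
    (hsize : ∀ q, clsCard r q ≤ B) (hnum : Nat.card (Quotient r) ≤ B) : s ≤ B := by
  classical
  rw [card_relStab] at hd
  rcases hs.dvd_mul.1 hd with h | h
  · have h1 := h.trans (Subgroup.card_subgroup_dvd_card _)
    rw [Nat.card_perm] at h1
    exact (hs.dvd_factorial.1 h1).trans hnum
  · have h1 := h.trans (Subgroup.card_map_of_injective (relStab r).subtype_injective ▸
      Subgroup.card_dvd_of_le (ker_map_le r))
    rw [card_fiber_mk] at h1
    obtain ⟨q, -, hq⟩ := (Prime.dvd_finsetProd_iff hs.prime _).1 h1
    exact (hs.dvd_factorial.1 hq).trans (hsize q)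

/-- Relations with the same class statistics are isomorphic. -/
theorem exists_map_of_clsCount (r' : Setoid α) (h : ∀ b, clsCount r b = clsCount r' b) :
    ∃ g : Perm α, ∀ a b, r' (g a) (g b) ↔ r a b := by
  classical
  let e : Quotient r ≃ Quotient r' := Equiv.ofFiberEquiv (f := clsCard r) (g := clsCard r') fun b =>
    Fintype.equivOfCardEq (by rw [Fintype.card_subtype, Fintype.card_subtype]; exact h b)
  have he : ∀ q, clsCard r' (e q) = clsCard r q := fun q => Equiv.ofFiberEquiv_map _ q
  let g : Perm α := Equiv.ofFiberEquiv (f := fun a => e (Quotient.mk r a)) (g := Quotient.mk r') fun q' =>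
    Fintype.equivOfCardEq (by
      rw [Fintype.card_subtype, Fintype.card_subtype]
      have := he (e.symm q')
      rw [Equiv.apply_symm_apply, clsCard, clsCard] at this
      rw [this]
      congr 1
      exact Finset.filter_congr fun a _ => e.apply_eq_iff_eq_symm_apply)
  have hg : ∀ a, Quotient.mk r' (g a) = e (Quotient.mk r a) := fun a => Equiv.ofFiberEquiv_map _ a
  exact ⟨g, fun a b => by rw [← Quotient.eq (r := r'), hg, hg, e.apply_eq_iff_eq, Quotient.eq]⟩

end CfsgLib.HallSymm
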