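import Mathlib
import Cfsg.Agent.HallSymm.Cycles
import Cfsg.Agent.HallSymm.Partition
import Cfsg.Agent.HallSymm.Numeric
import Cfsg.Agent.Solvable.Hall

/-!
# Hall subgroups of alternating groups containing three-cycles

The classes of the three-cycle relation give the whole structure.
-/

set_option autoImplicit false

namespace CfsgLib.HallSymm

open Equiv Equiv.Perm MulAction
open scoped Pointwise

variable {α : Type*} [Fintype α] [DecidableEq α]

theorem mem_support_conj (σ g : Perm α) (x : α) : σ x ∈ (σ * g * σ⁻¹).support ↔ x ∈ g.support := by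
  rw [mem_support, mem_support, mul_apply, mul_apply, Perm.coe_inv, Equiv.symm_apply_apply]
  exact σ.injective.ne_iff

theorem isThreeCycle_conj {σ g : Perm α} (hg : g.IsThreeCycle) : (σ * g * σ⁻¹).IsThreeCycle := by
  rw [IsThreeCycle, cycleType_conj]; exact hg

/-- Two points moved by a common three-cycle of `M`. -/
def CycleRel (M : Subgroup (Perm α)) (a b : α) : Prop :=
  a = b ∨ ∃ g ∈ M, g.IsThreeCycle ∧ a ∈ g.support ∧ b ∈ g.support

theorem CycleRel.trans {M : Subgroup (Perm α)} {a b c : α} (h1 : CycleRel M a b) (h2 : CycleRel M b c) :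
    CycleRel M a c := by
  rcases h1 with rfl | ⟨g, hgM, hg, hga, hgb⟩
  · exact h2
  rcases h2 with rfl | ⟨h, hhM, hh, hhb, hhc⟩
  · exact Or.inr ⟨g, hgM, hg, hga, hgb⟩
  by_cases hha : a ∈ h.support
  · exact Or.inr ⟨h, hhM, hh, hha, hhc⟩
  obtain ⟨i, -, hi⟩ := (hh.isCycle.sameCycle (mem_support.1 hhb) (mem_support.1 hhc)).exists_pow_eq'
  refine Or.inr ⟨h ^ i * g * (h ^ i)⁻¹, mul_mem (mul_mem (pow_mem hhM i) hgM) (inv_mem (pow_mem hhM i)),
    isThreeCycle_conj hg, ?_, ?_⟩
  · have h3 := (mem_support_conj (h ^ i) g a).2 hga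
    rwa [pow_apply_eq_self_of_apply_eq_self (notMem_support.1 hha) i] at h3
  · exact hi ▸ (mem_support_conj (h ^ i) g b).2 hgb

/-- The equivalence relation of common three-cycles. -/
def cycleSetoid (M : Subgroup (Perm α)) : Setoid α where
  r := CycleRel M
  iseqv := ⟨fun a => Or.inl rfl,
    fun {a b} h => h.elim (fun e => Or.inl e.symm) fun ⟨g, h1, h2, h3, h4⟩ => Or.inr ⟨g, h1, h2, h4, h3⟩,
    CycleRel.trans⟩

theorem normalizer_le_relStab (M : Subgroup (Perm α)) :
    Subgroup.normalizer (M : Set (Perm α)) ≤ relStab (cycleSetoid M) := by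
  have key : ∀ g ∈ Subgroup.normalizer (M : Set (Perm α)), ∀ a b, CycleRel M a b → CycleRel M (g a) (g b) := by
    rintro g hg a b (rfl | ⟨f, hf, h3, ha, hb⟩)
    · exact Or.inl rfl
    · exact Or.inr ⟨g * f * g⁻¹, (Subgroup.mem_normalizer_iff.1 hg f).1 hf, isThreeCycle_conj h3,
        (mem_support_conj g f a).2 ha, (mem_support_conj g f b).2 hb⟩
  intro g hg a b
  refine ⟨fun h => ?_, key g hg a b⟩
  have := key g⁻¹ (inv_mem hg) _ _ h
  simp at this
  exact this

theorem le_relStab (M : Subgroup (Perm α)) : M ≤ relStab (cycleSetoid M) :=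
  Subgroup.le_normalizer.trans (normalizer_le_relStab M)

open Classical in
/-- The class of a point. -/
noncomputable def classOf (M : Subgroup (Perm α)) (a : α) : Finset α := Finset.univ.filter (CycleRel M a)

theorem mem_classOf {M : Subgroup (Perm α)} {a b : α} : b ∈ classOf M a ↔ CycleRel M a b := by
  simp [classOf]

theorem classOf_blocks (M : Subgroup (Perm α)) (a : α) {g : Perm α} (hg : g ∈ M) :
    (classOf M a).image g = classOf M a ∨ Disjoint ((classOf M a).image g) (classOf M a) := by
  classical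
  have hs := le_relStab M hg
  by_cases h : CycleRel M a (g a)
  · left
    ext x
    obtain ⟨y, rfl⟩ := g.surjective x
    rw [Finset.mem_image, mem_classOf]
    constructor
    · rintro ⟨z, hz, hzy⟩
      rw [g.injective hzy, mem_classOf] at hz
      exact h.trans ((hs a y).2 hz)
    · intro hy
      exact ⟨y, mem_classOf.2 ((hs a y).1 (((cycleSetoid M).iseqv.symm h).trans hy)), rfl⟩
  · right
    rw [Finset.disjoint_left]
    intro x hx hx'
    obtain ⟨z, hz, rfl⟩ := Finset.mem_image.1 hx
    exact h ((mem_classOf.1 hx').trans ((cycleSetoid M).iseqv.symm ((hs a z).2 (mem_classOf.1 hz))))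

theorem support_subset_classOf {M : Subgroup (Perm α)} {g : Perm α} (hg : g ∈ M) (h3 : g.IsThreeCycle)
    {a x : α} (hx : x ∈ classOf M a) (hxg : x ∈ g.support) : g.support ⊆ classOf M a := fun y hy =>
  mem_classOf.2 ((mem_classOf.1 hx).trans (Or.inr ⟨g, hg, h3, hxg, hy⟩))

/-- The alternating group on a class lies in `M`. -/
theorem card_alt_dvd (M : Subgroup (Perm α)) (a : α) (h : 2 ≤ (classOf M a).card) :
    (classOf M a).card.factorial / 2 ∣ Nat.card M := by
  classical
  set C := classOf M a with hC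
  haveI : Nontrivial {x // x ∈ C} := Fintype.one_lt_card_iff_nontrivial.1 (by rw [Fintype.card_coe]; omega)
  set S : Set (Perm {x // x ∈ C}) := {f | ofSubtype f ∈ M ∧ f.IsThreeCycle} with hS
  set K := Subgroup.closure S with hK
  have hle : K.map ofSubtype ≤ M := by
    rw [hK, MonoidHom.map_closure, Subgroup.closure_le]
    rintro _ ⟨f, hf, rfl⟩
    exact hf.1
  -- three-cycles inside the class
  have hgen : ∀ x y : {x // x ∈ C}, x ≠ y → ∃ f ∈ S, x ∈ f.support ∧ y ∈ f.support := by
    rintro ⟨x, hx⟩ ⟨y, hy⟩ hxy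
    obtain ⟨g, hgM, hg3, hgx, hgy⟩ : ∃ g ∈ M, g.IsThreeCycle ∧ x ∈ g.support ∧ y ∈ g.support := by
      rcases ((cycleSetoid M).iseqv.symm (mem_classOf.1 hx)).trans (mem_classOf.1 hy) with e | e
      · exact absurd (Subtype.ext e) hxy
      · exact e
    have hsub := support_subset_classOf hgM hg3 hx hgx
    have hinv : ∀ z, g z ∈ C ↔ z ∈ C := fun z => by
      by_cases hz : z ∈ g.support
      · exact ⟨fun _ => hsub hz, fun _ => hsub (apply_mem_support.2 hz)⟩
      · rw [notMem_support.1 hz]
    have hof : ofSubtype (g.subtypePerm hinv) = g :=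
      ofSubtype_subtypePerm _ fun z hz => hsub (mem_support.2 hz)
    refine ⟨g.subtypePerm hinv, ⟨hof.symm ▸ hgM, ?_⟩, ?_, ?_⟩
    · rw [← card_support_eq_three_iff, ← card_support_eq_three_iff.2 hg3]
      conv_rhs => rw [← hof, support_ofSubtype, Finset.card_map]
      convert rfl
    · rw [mem_support] at hgx ⊢
      exact fun e => hgx (congrArg Subtype.val e)
    · rw [mem_support] at hgy ⊢
      exact fun e => hgy (congrArg Subtype.val e)
  haveI htr : IsPretransitive K {x // x ∈ C} := by
    refine ⟨fun x y => ?_⟩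
    rcases eq_or_ne x y with rfl | hxy
    · exact ⟨1, one_smul _ _⟩
    obtain ⟨f, hf, hfx, hfy⟩ := hgen x y hxy
    obtain ⟨i, hi⟩ := hf.2.isCycle.sameCycle (mem_support.1 hfx) (mem_support.1 hfy)
    refine ⟨(⟨f, Subgroup.subset_closure hf⟩ : K) ^ i, ?_⟩
    show ((((⟨f, Subgroup.subset_closure hf⟩ : K) ^ i : K)) : Perm {x // x ∈ C}) x = y
    rw [Subgroup.coe_zpow]
    exact hi
  haveI hprim : IsPreprimitive K {x // x ∈ C} := by
    constructor
    intro B hB
    rcases B.subsingleton_or_nontrivial with hs | hs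
    · exact Or.inl hs
    right
    obtain ⟨x, hx, x', hx', hne⟩ := hs
    by_contra hu
    obtain ⟨z, hz⟩ := (Set.ne_univ_iff_exists_notMem B).1 hu
    obtain ⟨f, hf, hfx, hfz⟩ := hgen x z (fun e => hz (e ▸ hx))
    have hblk : ∀ i : ℕ, B.toFinset.image ⇑(f ^ i) = B.toFinset ∨
        Disjoint (B.toFinset.image ⇑(f ^ i)) B.toFinset := by
      intro i
      have e : (B.toFinset.image ⇑(f ^ i) : Set {x // x ∈ C}) =
          ((⟨f, Subgroup.subset_closure hf⟩ : K) ^ i) • B := by
        rw [Finset.coe_image, Set.coe_toFinset]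
        rfl
      rcases isBlock_iff_smul_eq_or_disjoint.1 hB ((⟨f, Subgroup.subset_closure hf⟩ : K) ^ i) with h | h
      · left
        rw [← Finset.coe_inj, e, Set.coe_toFinset, h]
      · right
        rw [← Finset.disjoint_coe, e, Set.coe_toFinset]
        exact h
    rcases cycle_block Nat.prime_three hf.2.isCycle hf.2.card_support _ hblk (Set.mem_toFinset.2 hx) hfx with
      h | h
    · exact hz (Set.mem_toFinset.1 (h hfz))
    · refine hne ?_
      have h1 : x' ∈ ({x} : Finset {x // x ∈ C}) := h ▸ Set.mem_toFinset.2 hx'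
      exact (Finset.mem_singleton.1 h1).symm
  obtain ⟨x, y, hxy⟩ := exists_pair_ne {x // x ∈ C}
  obtain ⟨f, hf, -, -⟩ := hgen x y hxy
  have halt := alternatingGroup_le_of_isPreprimitive_of_isThreeCycle_mem hprim hf.2 (Subgroup.subset_closure hf)
  have h1 := (Subgroup.card_dvd_of_le halt).trans
    ((Subgroup.card_map_of_injective (K := K) ofSubtype_injective) ▸ Subgroup.card_dvd_of_le hle)
  rwa [nat_card_alternatingGroup, Nat.card_eq_fintype_card, Fintype.card_coe] at h1

open Classical in
theorem clsCard_mk (M : Subgroup (Perm α)) (a : α) :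
    clsCard (cycleSetoid M) (Quotient.mk _ a) = (classOf M a).card := by
  rw [clsCard]
  congr 1
  ext b
  simp only [Finset.mem_filter, Finset.mem_univ, true_and, mem_classOf]
  rw [Quotient.eq]
  exact ⟨fun h => (cycleSetoid M).iseqv.symm h, fun h => (cycleSetoid M).iseqv.symm h⟩

theorem classOf_card_ne_two (M : Subgroup (Perm α)) (a : α) : (classOf M a).card ≠ 2 := by
  intro h
  obtain ⟨x, hx, hxa⟩ := Finset.exists_mem_ne (by omega : 1 < (classOf M a).card) a
  rcases mem_classOf.1 hx with e | ⟨g, hg, h3, hga, -⟩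
  · exact hxa e.symm
  have := Finset.card_le_card (support_subset_classOf hg h3 (mem_classOf.2 (Or.inl rfl)) hga)
  rw [h3.card_support] at this
  omega

/-- A permutation with sign `-1` doubles the order. -/
theorem two_mul_card_dvd {G M : Subgroup (Perm α)} (hM : M ≤ alternatingGroup α) (hMG : M ≤ G)
    {g : Perm α} (hg : g ∈ G) (hodd : Perm.sign g = -1) : 2 * Nat.card M ∣ Nat.card G := by
  have h1 : Nat.card M ∣ Nat.card (G ⊓ alternatingGroup α : Subgroup (Perm α)) :=
    Subgroup.card_dvd_of_le (le_inf hMG hM)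
  refine (Nat.mul_dvd_mul_left 2 h1).trans (dvd_of_eq ?_)
  have h2 : ((alternatingGroup α).subgroupOf G).index = 2 := by
    rw [Subgroup.index_eq_two_iff]
    refine ⟨⟨g, hg⟩, fun b => ?_⟩
    simp only [Subgroup.mem_subgroupOf, Subgroup.coe_mul, mem_alternatingGroup, map_mul, hodd]
    rcases Int.units_eq_one_or (Perm.sign (b : Perm α)) with h | h <;> simp [h, xor_def]
  have h3 := ((alternatingGroup α).subgroupOf G).card_mul_index
  rw [h2, ← Subgroup.inf_subgroupOf_left, Nat.card_congr (Subgroup.subgroupOfEquivOfLe inf_le_left).toEquiv] at h3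
  rw [mul_comm]
  exact h3

/-- The number of classes of size `b` in the possible configurations of degree `n`, bound `r`. -/
def shape (n r b : ℕ) : ℕ :=
  if n = r then (if b = 1 ∨ b + 1 = r then 1 else 0)
  else if n = 7 then (if b = 3 ∨ b = 4 then 1 else 0) else (if b = 4 then 2 else 0)

variable {π : Set ℕ}

/-- The structure of a Hall subgroup of an alternating group containing three-cycles. -/
theorem structure_three (h3 : 3 ∈ π) {M : Subgroup (alternatingGroup α)} (hM : Cfsg.IsPiHall π M)
    {r : ℕ} (hr : r.Prime) (hr5 : 5 ≤ r) (hrπ : r ∉ π) (hrn : r ≤ Fintype.card α)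
    (hlow : ∀ s : ℕ, s.Prime → s < r → s ∈ π) :
    (∀ q : ℕ, q.Prime → q ≤ Fintype.card α → q ∈ π → q < r) ∧
      (Fintype.card α = r ∨ (r = 5 ∧ (Fintype.card α = 7 ∨ Fintype.card α = 8))) ∧
      Cfsg.IsPiHall π (relStab (cycleSetoid (amb M))) ∧
      M = (relStab (cycleSetoid (amb M))).subgroupOf (alternatingGroup α) ∧
      (∀ b, clsCount (cycleSetoid (amb M)) b = shape (Fintype.card α) r b) := by
  classical
  set n := Fintype.card α with hn
  set R := cycleSetoid (amb M) with hR
  have hMA : amb M ≤ alternatingGroup α := Subgroup.map_subtype_le M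
  have hMcard : Nat.card (amb M) = Nat.card M := amb_card M
  -- sizes of classes
  have hlt : ∀ a, (classOf (amb M) a).card < r := by
    intro a
    by_contra h
    have hd : r ∣ Nat.card M := hMcard ▸ (dvd_trans ?_ (card_alt_dvd (amb M) a (by omega)))
    · exact hrπ (hM.1 r hr hd)
    obtain ⟨e, he⟩ := Nat.dvd_factorial hr.pos (not_lt.1 h)
    obtain ⟨f, hf⟩ := Nat.dvd_factorial two_pos (show 2 ≤ (classOf (amb M) a).card by omega)
    rw [hf, Nat.mul_div_cancel_left _ two_pos]
    exact ((Nat.coprime_primes hr Nat.prime_two).2 (by omega)).dvd_of_dvd_mul_left ⟨e, hf.symm.trans he⟩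
  have hsingle : (Finset.univ.filter fun a => (classOf (amb M) a).card = 1).card ≤ 2 := by
    by_contra h
    obtain ⟨g, hg, hgc, hg3, x, hx, hxg⟩ := exists_cycle_meeting Nat.prime_three (by norm_num) h3 hM
      (Finset.univ.filter fun a => (classOf (amb M) a).card = 1) (by
        have := Nat.mod_lt (Fintype.card α) (show 0 < 3 by norm_num); omega)
    have h1 := Finset.card_le_card (support_subset_classOf hg (card_support_eq_three_iff.1 hg3)
      (mem_classOf.2 (Or.inl rfl) : x ∈ classOf (amb M) x) hxg)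
    rw [hg3, (Finset.mem_filter.1 hx).2] at h1
    omega
  have hsizes : ∀ b ∈ clsSizes R, b < r ∧ (b = 1 ∨ 3 ≤ b) := by
    intro b hb
    obtain ⟨q, -, rfl⟩ := Finset.mem_image.1 hb
    induction q using Quotient.inductionOn with
    | h a =>
      rw [clsCard_mk]
      refine ⟨hlt a, ?_⟩
      have := classOf_card_ne_two (amb M) a
      have : 0 < (classOf (amb M) a).card := Finset.card_pos.2 ⟨a, mem_classOf.2 (Or.inl rfl)⟩
      omega
  have hone : 1 ∈ clsSizes R → clsCount R 1 ≤ 2 := by
    intro _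
    refine le_trans ?_ hsingle
    refine Finset.card_le_card_of_surjOn (Quotient.mk R) fun q hq => ?_
    simp only [Finset.coe_filter, Finset.mem_univ, true_and] at hq
    induction q using Quotient.inductionOn with
    | h a =>
      refine ⟨a, ?_, rfl⟩
      simp only [Finset.coe_filter, Finset.mem_univ, true_and]
      exact (clsCard_mk (amb M) a).symm.trans hq
  -- an odd permutation
  obtain ⟨g0, hg0, hg0c, hg03, x0, -, hx0⟩ := exists_cycle_meeting Nat.prime_three (by norm_num) h3 hM
    (Finset.univ : Finset α) (by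
      rw [Finset.card_univ]; exact (Nat.mod_lt _ (by norm_num)).trans_le (by omega))
  obtain ⟨y0, hy0, hy0x⟩ := Finset.exists_mem_ne (by omega : 1 < g0.support.card) x0
  have hswap : swap x0 y0 ∈ relStab R :=
    swap_mem_relStab R (Or.inr ⟨g0, hg0, card_support_eq_three_iff.1 hg03, hx0, hy0⟩)
  have h2M : 2 * Nat.card M ∣ Nat.card (relStab R) :=
    hMcard ▸ two_mul_card_dvd hMA (le_relStab _) hswap (Equiv.Perm.sign_swap hy0x.symm)
  haveI : Nontrivial α := Fintype.one_lt_card_iff_nontrivial.1 (by omega)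
  have hnfac : n.factorial = 2 * Nat.card M * M.index := by
    have h4 : 2 ∣ n.factorial := Nat.dvd_factorial two_pos (by omega)
    have h5 := M.card_mul_index
    rw [nat_card_alternatingGroup, Nat.card_eq_fintype_card (α := α), ← hn] at h5
    rw [mul_assoc, h5, Nat.mul_div_cancel' h4]
  set N := ∏ b ∈ clsSizes R, b.factorial ^ clsCount R b * (clsCount R b).factorial with hN
  have hN0 : N ≠ 0 := Finset.prod_ne_zero_iff.2 fun b _ =>
    mul_ne_zero (pow_ne_zero _ b.factorial_ne_zero) (Nat.factorial_ne_zero _)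
  have hdN : 2 * Nat.card M ∣ N := h2M.trans (card_relStab_dvd R)
  have hcases := partition_cases hr hr5 hrn (clsSizes R) (clsCount R) (fun b hb => one_le_clsCount R hb)
    hsizes hone (sum_clsCount R) (fun s hs hsr => by
      rw [hnfac, Nat.factorization_mul (mul_ne_zero two_ne_zero Nat.card_pos.ne') Subgroup.index_ne_zero_of_finite,
        Finsupp.add_apply, Nat.factorization_eq_zero_of_not_dvd (hM.2 s hs (hlow s hs hsr)), add_zero]
      exact (Nat.factorization_le_iff_dvd (mul_ne_zero two_ne_zero Nat.card_pos.ne') hN0).2 hdN s)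
  have hcount : ∀ b, clsCount R b = shape n r b := by
    intro b
    by_cases hb : b ∈ clsSizes R
    · rcases hcases with ⟨h1, hS, m1, m2⟩ | ⟨h1, hr', hS, m1, m2⟩ | ⟨h1, hr', hS, m1⟩
      · rw [hS, Finset.mem_insert, Finset.mem_singleton] at hb
        rw [shape, if_pos h1, if_pos (by omega)]
        rcases hb with rfl | rfl <;> assumption
      · rw [hS, Finset.mem_insert, Finset.mem_singleton] at hb
        rw [shape, if_neg (by omega), if_pos h1, if_pos hb]
        rcases hb with rfl | rfl <;> assumption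
      · rw [hS, Finset.mem_singleton] at hb
        rw [shape, if_neg (by omega), if_neg (by omega), if_pos hb, hb, m1]
    · rw [clsCount_eq_zero R hb]
      rcases hcases with ⟨h1, hS, m1, m2⟩ | ⟨h1, hr', hS, m1, m2⟩ | ⟨h1, hr', hS, m1⟩
      · rw [hS, Finset.mem_insert, Finset.mem_singleton] at hb
        rw [shape, if_pos h1, if_neg (by omega)]
      · rw [hS, Finset.mem_insert, Finset.mem_singleton] at hb
        rw [shape, if_neg (by omega), if_pos h1, if_neg hb]
      · rw [hS, Finset.mem_singleton] at hb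
        rw [shape, if_neg (by omega), if_neg (by omega), if_neg hb]
  have hhigh : ∀ q : ℕ, q.Prime → q ≤ n → q ∈ π → q < r := by
    intro q hq hqn hqπ
    rcases lt_trichotomy q r with h | rfl | h
    · exact h
    · exact absurd hqπ hrπ
    exfalso
    obtain ⟨c, hc, hcc, hcq, -⟩ := exists_cycle_meeting hq (by omega) hqπ hM (Finset.univ : Finset α) (by
      rw [Finset.card_univ]; exact (Nat.mod_lt _ hq.pos).trans_le hqn)
    obtain ⟨a, hac, ha1⟩ : ∃ a ∈ c.support, (classOf (amb M) a).card ≠ 1 := by
      by_contra hno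
      push Not at hno
      have := Finset.card_le_card (s := c.support) fun a ha =>
        Finset.mem_filter.2 ⟨Finset.mem_univ a, hno a ha⟩
      omega
    rcases cycle_block hq hcc hcq (classOf (amb M) a) (fun i => classOf_blocks (amb M) a (pow_mem hc i))
      (mem_classOf.2 (Or.inl rfl)) hac with h' | h'
    · have := Finset.card_le_card h'
      have := hlt a
      omega
    · exact ha1 (by rw [h', Finset.card_singleton])
  have hNpi : ∀ s : ℕ, s.Prime → s ∣ N → s ∈ π := by
    intro s hs hsN
    obtain ⟨b, hb, hsb⟩ := (Prime.dvd_finsetProd_iff hs.prime _).1 hsN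
    refine hlow s hs ?_
    rcases hs.dvd_mul.1 hsb with h | h
    · exact (hs.dvd_factorial.1 (hs.dvd_of_dvd_pow h)).trans_lt (hsizes b hb).1
    · refine (hs.dvd_factorial.1 h).trans_lt ?_
      rw [hcount b, shape]
      split_ifs <;> omega
  have hHall : Cfsg.IsPiHall π (relStab R) := by
    refine ⟨fun s hs hd => hNpi s hs (hd.trans (card_relStab_dvd R)), fun s hs hsπ hd => hM.2 s hs hsπ (hd.trans ?_)⟩
    obtain ⟨e, he⟩ := h2M
    have h5 := (relStab R).card_mul_index
    rw [Nat.card_perm, Nat.card_eq_fintype_card (α := α), ← hn, he, hnfac, mul_assoc] at h5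
    exact ⟨e, by rw [mul_comm _ e]; exact (Nat.eq_of_mul_eq_mul_left (Nat.mul_pos two_pos Nat.card_pos) h5).symm⟩
  have heq : M = (relStab R).subgroupOf (alternatingGroup α) := by
    refine CfsgLib.Solvable.eq_of_isPiHall_le hM (fun s hs hd => ?_) fun x hx => ?_
    · refine hHall.1 s hs (hd.trans ?_)
      rw [← Subgroup.inf_subgroupOf_right, Nat.card_congr (Subgroup.subgroupOfEquivOfLe inf_le_right).toEquiv]
      exact Subgroup.card_dvd_of_le inf_le_left
    · exact le_relStab (amb M) ⟨x, hx, rfl⟩
  refine ⟨hhigh, ?_, hHall, heq, hcount⟩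
  rcases hcases with ⟨h1, -⟩ | ⟨h1, hr', -⟩ | ⟨h1, hr', -⟩
  · exact Or.inl h1
  · exact Or.inr ⟨hr', Or.inl h1⟩
  · exact Or.inr ⟨hr', Or.inr h1⟩

end CfsgLib.HallSymm
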