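import Mathlib
import Cfsg.Agent.HallSymm.ThreeCycle
import Cfsg.Agent.HallSymm.Degenerate

/-!
# Hall subgroups of symmetric and alternating groups

The theorem of Hall and Thompson: with two primes of `π` and one prime outside below `n`, a Hall
subgroup of `S_n` is a point stabiliser (`n` prime) or belongs to the partitions `3+4`, `4+4`.
-/

set_option autoImplicit false

namespace CfsgLib.HallSymm

open Equiv Equiv.Perm MulAction

variable {n : ℕ} {π : Set ℕ}

/-- Two primes of `π` up to `n` and one prime outside. -/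
def NonDegen (π : Set ℕ) (n : ℕ) : Prop :=
  (∃ r s : ℕ, r.Prime ∧ s.Prime ∧ r ≠ s ∧ r ∈ π ∧ s ∈ π ∧ r ≤ n ∧ s ≤ n) ∧
    ∃ r : ℕ, r.Prime ∧ r ≤ n ∧ r ∉ π

theorem prime_dvd_card_perm {r : ℕ} (hr : r.Prime) : r ∣ Nat.card (Perm (Fin n)) ↔ r ≤ n := by
  rw [Nat.card_perm, Nat.card_eq_fintype_card, Fintype.card_fin, hr.dvd_factorial]

theorem degenerate_of_dvd {G : Type*} [Group G] [Finite G] (h : Nat.card G ∣ Nat.card (Perm (Fin n)))
    (hn : ¬ NonDegen π n) : Degenerate π G := by
  by_cases hall : ∀ r : ℕ, r.Prime → r ≤ n → r ∈ π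
  · exact Or.inr fun r hr hd => hall r hr ((prime_dvd_card_perm hr).1 (hd.trans h))
  · push Not at hall
    refine Or.inl fun r s hr hs hrπ hsπ hdr hds => ?_
    by_contra hne
    exact hn ⟨⟨r, s, hr, hs, hne, hrπ, hsπ, (prime_dvd_card_perm hr).1 (hdr.trans h),
      (prime_dvd_card_perm hs).1 (hds.trans h)⟩, hall⟩

/-- The data of a Hall subgroup in the non-degenerate case. -/
structure HallData (π : Set ℕ) (n : ℕ) (M : Subgroup (alternatingGroup (Fin n))) where
  r : ℕ
  prime : r.Prime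
  five_le : 5 ≤ r
  notMem : r ∉ π
  le_card : r ≤ n
  mem_iff : ∀ q : ℕ, q.Prime → q ≤ n → (q ∈ π ↔ q < r)
  degree : n = r ∨ (r = 5 ∧ (n = 7 ∨ n = 8))
  hall : Cfsg.IsPiHall π (relStab (cycleSetoid (amb M)))
  eq : M = (relStab (cycleSetoid (amb M))).subgroupOf (alternatingGroup (Fin n))
  count : ∀ b, clsCount (cycleSetoid (amb M)) b = shape n r b

theorem classify (hnd : NonDegen π n) {M : Subgroup (alternatingGroup (Fin n))} (hM : Cfsg.IsPiHall π M) :
    Nonempty (HallData π n M) := by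
  classical
  obtain ⟨⟨p, q, hp, hq, hpq, hpπ, hqπ, hpn, hqn⟩, r', hr', hr'n, hr'π⟩ := hnd
  have h2 : 2 ∈ π := by
    by_contra h2
    rcases lt_or_gt_of_ne hpq with h | h
    · exact false_of_two_not_mem h2 hp hq hpπ hqπ h (by rw [Fintype.card_fin]; exact hqn) hM
    · exact false_of_two_not_mem h2 hq hp hqπ hpπ h (by rw [Fintype.card_fin]; exact hpn) hM
  have h3 : 3 ∈ π := by
    by_contra h3
    obtain ⟨t, ht, htπ, ht2, htn⟩ : ∃ t, t.Prime ∧ t ∈ π ∧ t ≠ 2 ∧ t ≤ n := by
      by_cases h : p = 2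
      · exact ⟨q, hq, hqπ, fun e => hpq (h.trans e.symm), hqn⟩
      · exact ⟨p, hp, hpπ, h, hpn⟩
    have ht5 : 5 ≤ t := by
      by_contra hlt
      have := ht.two_le
      interval_cases t <;> first | omega | exact h3 htπ | exact absurd ht (by norm_num)
    exact false_of_two_not_three h2 h3 ht ht5 htπ (by rw [Fintype.card_fin]; exact htn) hM
  have hex : ∃ r, r.Prime ∧ r ∉ π := ⟨r', hr', hr'π⟩
  obtain ⟨hr, hrπ⟩ := Nat.find_spec hex
  set r := Nat.find hex with hrdef
  have hlow : ∀ s : ℕ, s.Prime → s < r → s ∈ π := fun s hs hsr => by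
    by_contra h
    exact Nat.find_min hex (hrdef ▸ hsr) ⟨hs, h⟩
  have hr5 : 5 ≤ r := by
    have := hr.two_le
    by_contra hlt
    interval_cases r <;> first | exact hrπ h2 | exact hrπ h3 | exact absurd hr (by norm_num)
  have hrn : r ≤ n := (Nat.find_le ⟨hr', hr'π⟩).trans hr'n
  obtain ⟨hhigh, hdeg, hhall, heq, hcount⟩ := structure_three h3 hM hr hr5 hrπ
    (by rw [Fintype.card_fin]; exact hrn) hlow
  simp only [Fintype.card_fin] at hhigh hdeg hcount
  exact ⟨⟨r, hr, hr5, hrπ, hrn, fun t ht htn => ⟨hhigh t ht htn, hlow t ht⟩, hdeg, hhall, heq, hcount⟩⟩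

theorem HallData.r_eq {M M' : Subgroup (alternatingGroup (Fin n))} (D : HallData π n M) (D' : HallData π n M') :
    D.r = D'.r := by
  rcases lt_trichotomy D.r D'.r with h | h | h
  · exact absurd ((D'.mem_iff D.r D.prime D.le_card).2 h) D.notMem
  · exact h
  · exact absurd ((D.mem_iff D'.r D'.prime D'.le_card).2 h) D'.notMem

theorem HallData.two_mem {M : Subgroup (alternatingGroup (Fin n))} (D : HallData π n M) : 2 ∈ π :=
  (D.mem_iff 2 Nat.prime_two (by have := D.five_le; have := D.le_card; omega)).2 (by have := D.five_le; omega)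

/-- A Hall subgroup for `π ∋ 2` contains an odd permutation. -/
theorem exists_odd_mem (hn : 2 ≤ n) (h2 : 2 ∈ π) {K : Subgroup (Perm (Fin n))} (hK : Cfsg.IsPiHall π K) :
    ∃ g ∈ K, Perm.sign g = -1 := by
  by_contra h
  push Not at h
  have hle : K ≤ alternatingGroup (Fin n) := fun g hg =>
    mem_alternatingGroup.2 ((Int.units_eq_one_or _).resolve_right (h g hg))
  haveI : Nontrivial (Fin n) := Fin.nontrivial_iff_two_le.2 hn
  have h1 := Subgroup.index_dvd_of_le hle
  rw [alternatingGroup.index_eq_two] at h1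
  exact hK.2 2 Nat.prime_two h2 h1

/-- The stabiliser of the relation is conjugate. -/
theorem exists_even_conj {M M' : Subgroup (alternatingGroup (Fin n))} (D : HallData π n M)
    (D' : HallData π n M') : ∃ g : Perm (Fin n), Perm.sign g = 1 ∧
      ∀ x, x ∈ relStab (cycleSetoid (amb M')) ↔ g⁻¹ * x * g ∈ relStab (cycleSetoid (amb M)) := by
  obtain ⟨g, hg⟩ := exists_map_of_clsCount (cycleSetoid (amb M)) (cycleSetoid (amb M')) fun b => by
    rw [D.count, D'.count, D.r_eq D']
  have key : ∀ g : Perm (Fin n),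
      (∀ a b, cycleSetoid (amb M') (g a) (g b) ↔ cycleSetoid (amb M) a b) →
      ∀ x, x ∈ relStab (cycleSetoid (amb M')) ↔ g⁻¹ * x * g ∈ relStab (cycleSetoid (amb M)) := by
    intro g hg x
    rw [mem_relStab, mem_relStab]
    constructor
    · intro h a b
      rw [← hg, ← hg a b, mul_apply, mul_apply, mul_apply, mul_apply, Perm.coe_inv, Equiv.apply_symm_apply,
        Equiv.apply_symm_apply]
      exact h _ _
    · intro h a b
      obtain ⟨a, rfl⟩ := g.surjective a
      obtain ⟨b, rfl⟩ := g.surjective b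
      have h' := h a b
      rw [← hg, ← hg a b, mul_apply, mul_apply, mul_apply, mul_apply, Perm.coe_inv, Equiv.apply_symm_apply,
        Equiv.apply_symm_apply] at h'
      exact h'
  rcases Int.units_eq_one_or (Perm.sign g) with h | h
  · exact ⟨g, h, key g hg⟩
  obtain ⟨t, ht, hts⟩ := exists_odd_mem (by have := D.five_le; have := D.le_card; omega) D'.two_mem D'.hall
  refine ⟨t * g, by rw [map_mul, hts, h]; rfl, key _ fun a b => ?_⟩
  rw [mul_apply, mul_apply, ht, hg]

theorem alt_conj (hnd : NonDegen π n) {M M' : Subgroup (alternatingGroup (Fin n))} (hM : Cfsg.IsPiHall π M)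
    (hM' : Cfsg.IsPiHall π M') : ∃ g : alternatingGroup (Fin n), M' = M.map (MulAut.conj g).toMonoidHom := by
  obtain ⟨D⟩ := classify hnd hM
  obtain ⟨D'⟩ := classify hnd hM'
  obtain ⟨g, hg, hiff⟩ := exists_even_conj D D'
  refine ⟨⟨g, hg⟩, ?_⟩
  ext x
  rw [Subgroup.mem_map_equiv, D'.eq, D.eq, Subgroup.mem_subgroupOf, Subgroup.mem_subgroupOf, hiff]
  rfl

/-- A Hall subgroup of `S_n` is the stabiliser of the partition of its even part. -/
theorem sym_eq (hnd : NonDegen π n) {H : Subgroup (Perm (Fin n))} (hH : Cfsg.IsPiHall π H) :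
    ∃ M, ∃ _ : HallData π n M, H = relStab (cycleSetoid (amb M)) := by
  have hM : Cfsg.IsPiHall π ((H ⊓ alternatingGroup (Fin n)).subgroupOf (alternatingGroup (Fin n))) :=
    CfsgLib.Solvable.isPiHall_inf_normal hH
  obtain ⟨D⟩ := classify hnd hM
  refine ⟨_, D, CfsgLib.Solvable.eq_of_isPiHall_le hH D.hall.1 ?_⟩
  refine le_trans ?_ (normalizer_le_relStab _)
  intro h hh
  rw [amb, Subgroup.subgroupOf_map_subtype, inf_assoc, inf_idem, Subgroup.mem_normalizer_iff]
  intro x
  simp only [SetLike.mem_coe, Subgroup.mem_inf]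
  constructor
  · exact fun ⟨h1, h2⟩ => ⟨mul_mem (mul_mem hh h1) (inv_mem hh),
      (inferInstance : (alternatingGroup (Fin n)).Normal).conj_mem x h2 h⟩
  · rintro ⟨h1, h2⟩
    refine ⟨?_, ?_⟩
    · have := mul_mem (mul_mem (inv_mem hh) h1) hh
      simpa [mul_assoc] using this
    · have := (inferInstance : (alternatingGroup (Fin n)).Normal).conj_mem _ h2 h⁻¹
      simpa [mul_assoc] using this

theorem sym_conj (hnd : NonDegen π n) {H H' : Subgroup (Perm (Fin n))} (hH : Cfsg.IsPiHall π H)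
    (hH' : Cfsg.IsPiHall π H') : ∃ g : Perm (Fin n), H' = H.map (MulAut.conj g).toMonoidHom := by
  obtain ⟨M, D, rfl⟩ := sym_eq hnd hH
  obtain ⟨M', D', rfl⟩ := sym_eq hnd hH'
  obtain ⟨g, -, hiff⟩ := exists_even_conj D D'
  refine ⟨g, ?_⟩
  ext x
  rw [Subgroup.mem_map_equiv, hiff]
  simp

theorem isCPi_perm (h : Cfsg.IsEPiGroup π (Perm (Fin n))) : Cfsg.IsCPiGroup π (Perm (Fin n)) := by
  by_cases hnd : NonDegen π n
  · exact ⟨h, fun H K hH hK => sym_conj hnd hH hK⟩
  · exact isCPi_of_isDPi (isDPi_of_degenerate (degenerate_of_dvd dvd_rfl hnd))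

theorem isCPi_alt (h : Cfsg.IsEPiGroup π (alternatingGroup (Fin n))) :
    Cfsg.IsCPiGroup π (alternatingGroup (Fin n)) := by
  by_cases hnd : NonDegen π n
  · exact ⟨h, fun H K hH hK => alt_conj hnd hH hK⟩
  · exact isCPi_of_isDPi (isDPi_of_degenerate
      (degenerate_of_dvd (Subgroup.card_subgroup_dvd_card _) hnd))

theorem isEPi_alt_of_perm (h : Cfsg.IsEPiGroup π (Perm (Fin n))) : Cfsg.IsEPiGroup π (alternatingGroup (Fin n)) := by
  obtain ⟨H, hH⟩ := h
  exact ⟨_, CfsgLib.Solvable.isPiHall_inf_normal (L := alternatingGroup (Fin n)) hH⟩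

theorem isEPi_perm_of_alt (h : Cfsg.IsEPiGroup π (alternatingGroup (Fin n))) : Cfsg.IsEPiGroup π (Perm (Fin n)) := by
  by_cases hnd : NonDegen π n
  · obtain ⟨M, hM⟩ := h
    obtain ⟨D⟩ := classify hnd hM
    exact ⟨_, D.hall⟩
  · exact (isCPi_of_isDPi (isDPi_of_degenerate (degenerate_of_dvd dvd_rfl hnd))).1

theorem isPiHall_map_conj {G : Type*} [Group G] {H : Subgroup G} (hH : Cfsg.IsPiHall π H) (g : G) :
    Cfsg.IsPiHall π (H.map (MulAut.conj g).toMonoidHom) := by
  refine ⟨?_, ?_⟩
  · rw [Subgroup.card_map_of_injective (f := (MulAut.conj g).toMonoidHom) (MulAut.conj g).injective]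
    exact hH.1
  · rw [Subgroup.index_map_of_bijective (f := (MulAut.conj g).toMonoidHom) (MulAut.conj g).bijective]
    exact hH.2

theorem isPiHall_alt_iff (M : Subgroup (alternatingGroup (Fin n))) :
    Cfsg.IsPiHall π M ↔ ∃ M₀ : Subgroup (Perm (Fin n)), Cfsg.IsPiHall π M₀ ∧
      M = M₀.subgroupOf (alternatingGroup (Fin n)) := by
  have hsub : ∀ H : Subgroup (Perm (Fin n)),
      (H ⊓ alternatingGroup (Fin n)).subgroupOf (alternatingGroup (Fin n)) = H.subgroupOf (alternatingGroup (Fin n)) :=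
    fun H => Subgroup.inf_subgroupOf_right H _
  constructor
  · intro hM
    obtain ⟨H, hH⟩ := isEPi_perm_of_alt ⟨M, hM⟩
    have hHA : Cfsg.IsPiHall π (H.subgroupOf (alternatingGroup (Fin n))) :=
      hsub H ▸ CfsgLib.Solvable.isPiHall_inf_normal hH
    obtain ⟨g, rfl⟩ := (isCPi_alt ⟨M, hM⟩).2 _ _ hHA hM
    refine ⟨H.map (MulAut.conj (g : Perm (Fin n))).toMonoidHom, isPiHall_map_conj hH _, ?_⟩
    ext x
    rw [Subgroup.mem_map_equiv, Subgroup.mem_subgroupOf, Subgroup.mem_subgroupOf, Subgroup.mem_map_equiv]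
    rfl
  · rintro ⟨H, hH, rfl⟩
    exact hsub H ▸ CfsgLib.Solvable.isPiHall_inf_normal hH

/-- The necessary condition. -/
theorem condition_of_hall (hnd : NonDegen π n) (h : Cfsg.IsEPiGroup π (Perm (Fin n))) :
    (n.Prime ∧ ∀ r : ℕ, r.Prime → r ≤ n → (r ∈ π ↔ r < n)) ∨
      ((n = 7 ∨ n = 8) ∧ ∀ r : ℕ, r.Prime → r ≤ n → (r ∈ π ↔ (r = 2 ∨ r = 3))) := by
  obtain ⟨H, hH⟩ := h
  obtain ⟨M, D, -⟩ := sym_eq hnd hH
  rcases D.degree with h | ⟨h5, h78⟩
  · refine Or.inl ⟨h ▸ D.prime, fun t ht htn => ?_⟩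
    rw [D.mem_iff t ht htn]
    constructor <;> intro h' <;> omega
  · refine Or.inr ⟨h78, fun t ht htn => ?_⟩
    rw [D.mem_iff t ht htn, h5]
    have := ht.two_le
    refine ⟨fun h => ?_, by omega⟩
    interval_cases t <;> first | omega | exact absurd ht (by norm_num)

theorem isEPi_of_prime (hp : n.Prime) (hπ : ∀ r : ℕ, r.Prime → r ≤ n → (r ∈ π ↔ r < n)) :
    Cfsg.IsEPiGroup π (Perm (Fin n)) := by
  haveI : NeZero n := ⟨hp.ne_zero⟩
  haveI : IsPretransitive (Perm (Fin n)) (Fin n) := ⟨fun a b => ⟨swap a b, swap_apply_left a b⟩⟩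
  have hi : (stabilizer (Perm (Fin n)) (0 : Fin n)).index = n := by
    rw [index_stabilizer_of_transitive, Nat.card_eq_fintype_card, Fintype.card_fin]
  refine ⟨stabilizer (Perm (Fin n)) (0 : Fin n), fun t ht hd => ?_, fun t ht htπ hd => ?_⟩
  · have h1 := (stabilizer (Perm (Fin n)) (0 : Fin n)).card_mul_index
    rw [hi, Nat.card_perm, Nat.card_eq_fintype_card (α := Fin n), Fintype.card_fin,
      ← Nat.mul_factorial_pred hp.ne_zero, mul_comm] at h1
    rw [Nat.eq_of_mul_eq_mul_left hp.pos h1, ht.dvd_factorial] at hd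
    have := hp.two_le
    exact (hπ t ht (by omega)).2 (by omega)
  · rw [hi, Nat.prime_dvd_prime_iff_eq ht hp] at hd
    exact absurd ((hπ t ht hd.le).1 htπ) (by omega)

theorem isPiHall_of_index_thirtyfive {m : ℕ} (hm : m = 7 ∨ m = 8) {K : Subgroup (Perm (Fin m))}
    {c : ℕ} (hc : c * 35 = m.factorial) (hcard : Nat.card K = c) (hc6 : c ∣ 2 ^ 7 * 3 ^ 2)
    (hπ : ∀ r : ℕ, r.Prime → r ≤ m → (r ∈ π ↔ (r = 2 ∨ r = 3))) : Cfsg.IsPiHall π K := by
  have hi : K.index = 35 := by
    have h1 := K.card_mul_index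
    rw [hcard, Nat.card_perm, Nat.card_eq_fintype_card (α := Fin m), Fintype.card_fin, ← hc] at h1
    exact Nat.eq_of_mul_eq_mul_left (hcard ▸ Nat.card_pos) h1
  refine ⟨fun t ht hd => ?_, fun t ht htπ hd => ?_⟩
  · rcases ht.dvd_mul.1 ((hcard ▸ hd).trans hc6) with h | h
    · rw [(Nat.prime_dvd_prime_iff_eq ht Nat.prime_two).1 (ht.dvd_of_dvd_pow h)]
      exact (hπ 2 Nat.prime_two (by omega)).2 (Or.inl rfl)
    · rw [(Nat.prime_dvd_prime_iff_eq ht Nat.prime_three).1 (ht.dvd_of_dvd_pow h)]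
      exact (hπ 3 Nat.prime_three (by omega)).2 (Or.inr rfl)
  · rw [hi, show 35 = 5 * 7 from rfl, ht.dvd_mul, Nat.prime_dvd_prime_iff_eq ht Nat.prime_five,
      Nat.prime_dvd_prime_iff_eq ht (by norm_num)] at hd
    rcases hd with rfl | rfl
    · exact absurd ((hπ 5 ht (by omega)).1 htπ) (by norm_num)
    · exact absurd ((hπ 7 ht (by omega)).1 htπ) (by norm_num)

theorem card_four_three : Nat.card (fiberPerm fun x : Fin 7 => decide (x.val < 4)) = 144 := by
  rw [card_fiberPerm]
  decide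

theorem card_four_four : Nat.card (fiberPerm fun x : Fin 8 => decide (x.val < 4)) = 576 := by
  rw [card_fiberPerm]
  decide

/-- The stabiliser of a partition into two halves of eight points. -/
def halves : Subgroup (Perm (Fin 8)) where
  carrier := {g | (∀ x, decide ((g x).val < 4) = decide (x.val < 4)) ∨
    ∀ x, decide ((g x).val < 4) = !decide (x.val < 4)}
  mul_mem' {g h} hg hh := by
    rcases hg with hg | hg <;> rcases hh with hh | hh
    · exact Or.inl fun x => by rw [mul_apply, hg, hh]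
    · exact Or.inr fun x => by rw [mul_apply, hg, hh]
    · exact Or.inr fun x => by rw [mul_apply, hg, hh]
    · exact Or.inl fun x => by rw [mul_apply, hg, hh, Bool.not_not]
  one_mem' := Or.inl fun x => rfl
  inv_mem' {g} hg := by
    rcases hg with hg | hg
    · exact Or.inl fun x => by simpa using (hg (g⁻¹ x)).symm
    · exact Or.inr fun x => by
        have := hg (g⁻¹ x)
        rw [Perm.coe_inv, Equiv.apply_symm_apply] at this
        rw [Perm.coe_inv, this, Bool.not_not]

theorem card_halves : Nat.card halves = 1152 := by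
  set F := fiberPerm fun x : Fin 8 => decide (x.val < 4) with hF
  have hle : F ≤ halves := fun g hg => Or.inl (mem_fiberPerm.1 hg)
  set τ : Perm (Fin 8) := swap 0 4 * swap 1 5 * swap 2 6 * swap 3 7 with hτdef
  have hτ : ∀ x : Fin 8, decide ((τ x).val < 4) = !decide (x.val < 4) := by rw [hτdef]; decide +kernel
  have hidx : (F.subgroupOf halves).index = 2 := by
    rw [Subgroup.index_eq_two_iff]
    refine ⟨⟨τ, Or.inr hτ⟩, fun b => ?_⟩
    simp only [Subgroup.mem_subgroupOf, Subgroup.coe_mul, hF, mem_fiberPerm, mul_apply]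
    rcases b.2 with h | h
    · refine Or.inr ⟨h, fun hh => ?_⟩
      have h0 := hh 0
      rw [h, hτ] at h0
      simp at h0
    · refine Or.inl ⟨fun x => by rw [h, hτ, Bool.not_not], fun hh => ?_⟩
      have h0 := hh 0
      rw [h] at h0
      simp at h0
  have h3 := (F.subgroupOf halves).card_mul_index
  rw [hidx, Nat.card_congr (Subgroup.subgroupOfEquivOfLe hle).toEquiv, hF, card_four_four] at h3
  omega

theorem isEPi_perm_iff (hnd : NonDegen π n) :
    Cfsg.IsEPiGroup π (Perm (Fin n)) ↔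
      ((n.Prime ∧ ∀ r : ℕ, r.Prime → r ≤ n → (r ∈ π ↔ r < n)) ∨
       ((n = 7 ∨ n = 8) ∧ ∀ r : ℕ, r.Prime → r ≤ n → (r ∈ π ↔ (r = 2 ∨ r = 3)))) := by
  refine ⟨condition_of_hall hnd, ?_⟩
  rintro (⟨hp, hπ⟩ | ⟨rfl | rfl, hπ⟩)
  · exact isEPi_of_prime hp hπ
  · exact ⟨_, isPiHall_of_index_thirtyfive (Or.inl rfl) (by decide) card_four_three (by decide) hπ⟩
  · exact ⟨_, isPiHall_of_index_thirtyfive (Or.inr rfl) (by decide) card_halves (by decide) hπ⟩

/-- A unique class of size `b` is fixed by the stabiliser. -/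
theorem exists_fixed_set {α : Type*} [Fintype α] [DecidableEq α] (r : Setoid α) {b : ℕ} (h : clsCount r b = 1) :
    ∃ X : Finset α, X.card = b ∧ ∀ g ∈ relStab r, X.image g = X := by
  classical
  obtain ⟨q, hq⟩ := Finset.card_eq_one.1 h
  have hqb : clsCard r q = b := by
    have hmem := Finset.mem_singleton_self q
    rw [← hq] at hmem
    exact (Finset.mem_filter.1 hmem).2
  refine ⟨Finset.univ.filter fun a => Quotient.mk r a = q, hqb, fun g hg => ?_⟩
  have hfix : toQuot r ⟨g, hg⟩ q = q := by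
    have h1 : clsCard r (toQuot r ⟨g, hg⟩ q) = b := (mem_fiberPerm.1 (range_le r ⟨_, rfl⟩) q).trans hqb
    refine Finset.mem_singleton.1 ?_
    rw [← hq, Finset.mem_filter]
    exact ⟨@Finset.mem_univ _ (_) _, h1⟩
  refine Finset.eq_of_subset_of_card_le (fun x hx => ?_) (by rw [Finset.card_image_of_injective _ g.injective])
  obtain ⟨a, ha, rfl⟩ := Finset.mem_image.1 hx
  refine Finset.mem_filter.2 ⟨Finset.mem_univ _, ?_⟩
  have h2 := toQuot_mk r ⟨g, hg⟩ a
  rw [(Finset.mem_filter.1 ha).2, hfix] at h2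
  exact h2.symm

/-- The images of a class are classes. -/
theorem exists_class {α : Type*} [Fintype α] [DecidableEq α] (r : Setoid α) {b : ℕ} (h : 0 < clsCount r b) :
    ∃ X : Finset α, X.card = b ∧ ∀ g ∈ relStab r, X.image g = X ∨ Disjoint (X.image g) X := by
  classical
  obtain ⟨q, hq⟩ := Finset.card_pos.1 h
  refine ⟨Finset.univ.filter fun a => Quotient.mk r a = q, (Finset.mem_filter.1 hq).2, fun g hg => ?_⟩
  by_cases hfix : toQuot r ⟨g, hg⟩ q = q
  · left
    refine Finset.eq_of_subset_of_card_le (fun x hx => ?_) (by rw [Finset.card_image_of_injective _ g.injective])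
    obtain ⟨a, ha, rfl⟩ := Finset.mem_image.1 hx
    refine Finset.mem_filter.2 ⟨Finset.mem_univ _, ?_⟩
    have h2 := toQuot_mk r ⟨g, hg⟩ a
    rw [(Finset.mem_filter.1 ha).2, hfix] at h2
    exact h2.symm
  · right
    rw [Finset.disjoint_left]
    intro x hx hx'
    obtain ⟨a, ha, rfl⟩ := Finset.mem_image.1 hx
    have h2 := toQuot_mk r ⟨g, hg⟩ a
    rw [(Finset.mem_filter.1 ha).2, (Finset.mem_filter.1 hx').2] at h2
    exact hfix h2

/-- The relation of equal halved values. -/
def pairs (n : ℕ) : Setoid (Fin n) := Setoid.ker fun x => x.val / 2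

theorem prime_le_four_of_dvd_pairs {m s : ℕ} (hm : m ≤ 8) (hs : s.Prime)
    (hd : s ∣ Nat.card (relStab (pairs m))) : s ≤ 4 := by
  classical
  refine prime_dvd_card_relStab (pairs m) hs hd (fun q => ?_) ?_
  · induction q using Quotient.inductionOn with
    | h a =>
      refine le_trans (Finset.card_le_card_of_injOn (fun x => x.val % 2) (t := Finset.range 2) ?_ ?_) (by simp)
      · intro x _
        simp only [Finset.coe_range, Set.mem_Iio]
        omega
      · intro x hx y hy hxy
        simp only [Finset.coe_filter, Finset.mem_univ, true_and, Set.mem_setOf_eq, Quotient.eq] at hx hy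
        have e1 : x.val / 2 = a.val / 2 := hx
        have e2 : y.val / 2 = a.val / 2 := hy
        have e3 : x.val % 2 = y.val % 2 := hxy
        exact Fin.ext (by omega)
  · let f : Quotient (pairs m) → Fin 4 := Quotient.lift (fun x => ⟨x.val / 2, by omega⟩) fun a b h => Fin.ext h
    have hf : Function.Injective f := fun q q' => Quotient.inductionOn₂ q q' fun a b h =>
      Quotient.sound (congrArg Fin.val h)
    have := Nat.card_le_card_of_injective f hf
    rwa [Nat.card_eq_fintype_card (α := Fin 4), Fintype.card_fin] at this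

theorem exists_moving (hn : 5 ≤ n) (w : Fin n) :
    ∃ x ∈ fiberPerm (fun y : Fin n => decide (y.val < 2)), Perm.sign x = 1 ∧ x w ≠ w := by
  classical
  have hclass : ∀ a b : Fin n, (a.val < 2 ↔ b.val < 2) →
      swap a b ∈ fiberPerm (fun y : Fin n => decide (y.val < 2)) := by
    intro a b hab
    refine mem_fiberPerm.2 fun y => ?_
    rcases eq_or_ne y a with rfl | hya
    · rw [swap_apply_left]; simp [hab]
    rcases eq_or_ne y b with rfl | hyb
    · rw [swap_apply_right]; simp [hab]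
    · rw [swap_apply_of_ne_of_ne hya hyb]
  by_cases hw : w.val < 2
  · refine ⟨swap ⟨0, by omega⟩ ⟨1, by omega⟩ * swap ⟨2, by omega⟩ ⟨3, by omega⟩,
      mul_mem (hclass _ _ (by simp)) (hclass _ _ (by simp)), ?_, ?_⟩
    · rw [map_mul, sign_swap (by simp [Fin.ext_iff]), sign_swap (by simp [Fin.ext_iff])]; rfl
    · have e : swap (⟨2, by omega⟩ : Fin n) ⟨3, by omega⟩ w = w :=
        swap_apply_of_ne_of_ne (by simp [Fin.ext_iff]; omega) (by simp [Fin.ext_iff]; omega)
      rw [mul_apply, e]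
      rcases (show w.val = 0 ∨ w.val = 1 by omega) with h | h
      · rw [show w = ⟨0, by omega⟩ from Fin.ext h, swap_apply_left]; simp [Fin.ext_iff]
      · rw [show w = ⟨1, by omega⟩ from Fin.ext h, swap_apply_right]; simp [Fin.ext_iff]
  · obtain ⟨y, z, hy, hz, hyw, hzw, hyz⟩ :
        ∃ y z : Fin n, 2 ≤ y.val ∧ 2 ≤ z.val ∧ y ≠ w ∧ z ≠ w ∧ y ≠ z := by
      by_cases h2 : w.val = 2
      · exact ⟨⟨3, by omega⟩, ⟨4, by omega⟩, by simp, by simp, by simp [Fin.ext_iff]; omega,
          by simp [Fin.ext_iff]; omega, by simp [Fin.ext_iff]⟩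
      by_cases h3 : w.val = 3
      · exact ⟨⟨2, by omega⟩, ⟨4, by omega⟩, by simp, by simp, by simp [Fin.ext_iff]; omega,
          by simp [Fin.ext_iff]; omega, by simp [Fin.ext_iff]⟩
      exact ⟨⟨2, by omega⟩, ⟨3, by omega⟩, by simp, by simp, by simp [Fin.ext_iff]; omega,
        by simp [Fin.ext_iff]; omega, by simp [Fin.ext_iff]⟩
    refine ⟨swap w y * swap w z, mul_mem (hclass _ _ (by omega)) (hclass _ _ (by omega)), ?_, ?_⟩
    · exact (isThreeCycle_swap_mul_swap_same hyw.symm hzw.symm hyz).mem_alternatingGroup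
    · rw [mul_apply, swap_apply_left, swap_apply_of_ne_of_ne hzw hyz.symm]
      exact hzw

theorem pi_of_le_four {M : Subgroup (alternatingGroup (Fin n))} (D : HallData π n M) {s : ℕ} (hs : s.Prime)
    (h4 : s ≤ 4) : s ∈ π :=
  (D.mem_iff s hs (by have := D.five_le; have := D.le_card; omega)).2 (by have := D.five_le; omega)

theorem not_isDPi_alt (hnd : NonDegen π n) : ¬ Cfsg.IsDPiGroup π (alternatingGroup (Fin n)) := by
  classical
  intro hD
  obtain ⟨H, hH, hconj⟩ := exists_isPiHall_of_isDPi hD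
  obtain ⟨D⟩ := classify hnd hH
  have hn5 : 5 ≤ n := D.five_le.trans D.le_card
  -- every `π`-subgroup leaves invariant the sets attached to `H`
  have key : ∀ T : Subgroup (Perm (Fin n)), (∀ s : ℕ, s.Prime → s ∣ Nat.card T → s ∈ π) →
      ∃ g : Perm (Fin n), ∀ x ∈ T, Perm.sign x = 1 → g⁻¹ * x * g ∈ relStab (cycleSetoid (amb H)) := by
    intro T hT
    obtain ⟨g, hg⟩ := hconj (T.subgroupOf (alternatingGroup (Fin n))) (fun s hs hd => hT s hs (hd.trans (by
      rw [← Subgroup.inf_subgroupOf_right, Nat.card_congr (Subgroup.subgroupOfEquivOfLe inf_le_right).toEquiv]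
      exact Subgroup.card_dvd_of_le inf_le_left)))
    refine ⟨g, fun x hx hs => ?_⟩
    exact le_relStab (amb H) ⟨_, hg ⟨x, mem_alternatingGroup.2 hs⟩ hx, rfl⟩
  have transfer : ∀ (g x : Perm (Fin n)) (X : Finset (Fin n)),
      (X.image g).image x = (X.image ⇑(g⁻¹ * x * g)).image g := fun g x X => by
    rw [Finset.image_image, Finset.image_image]
    congr 1
    ext a
    simp
  rcases D.degree with hn | ⟨h5, hn⟩
  · obtain ⟨g, hg⟩ := key (fiberPerm fun x : Fin n => decide (x.val < 2)) (fun s hs hd => by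
      rw [card_fiberPerm] at hd
      obtain ⟨i, -, hi⟩ := (Prime.dvd_finsetProd_iff hs.prime _).1 hd
      have h1 := hs.dvd_factorial.1 hi
      have hlt : (Finset.univ.filter fun a : Fin n => decide (a.val < 2) = i).card < n := by
        have h := Finset.card_lt_card (s := Finset.univ.filter fun a : Fin n => decide (a.val < 2) = i)
          (t := Finset.univ) (Finset.filter_ssubset.2 (by
            cases i
            · exact ⟨⟨0, by omega⟩, Finset.mem_univ _, by simp⟩
            · exact ⟨⟨2, by omega⟩, Finset.mem_univ _, by simp⟩))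
        rwa [Finset.card_univ, Fintype.card_fin] at h
      exact (D.mem_iff s hs (by omega)).2 (by omega))
    obtain ⟨X, hX1, hX⟩ := exists_fixed_set (cycleSetoid (amb H)) (b := 1) (by rw [D.count, shape, if_pos hn]; simp)
    obtain ⟨a, rfl⟩ := Finset.card_eq_one.1 hX1
    have hfix : ∀ x ∈ fiberPerm (fun x : Fin n => decide (x.val < 2)), Perm.sign x = 1 → x (g a) = g a := by
      intro x hx hs
      have h1 := transfer g x {a}
      rw [hX _ (hg x hx hs)] at h1
      simpa using h1
    obtain ⟨x, hx, hxs, hxa⟩ := exists_moving hn5 (g a)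
    exact hxa (hfix x hx hxs)
  · rcases hn with rfl | rfl
    · obtain ⟨g, hg⟩ := key (relStab (pairs 7)) fun s hs hd =>
        pi_of_le_four D hs (prime_le_four_of_dvd_pairs (by norm_num) hs hd)
      obtain ⟨X, hX3, hX⟩ := exists_fixed_set (cycleSetoid (amb H)) (b := 3) (by
        rw [D.count, shape, if_neg (by omega), if_pos rfl]; simp)
      have hmem : ∀ x : Perm (Fin 7), (∀ a b : Fin 7, (x a).val / 2 = (x b).val / 2 ↔ a.val / 2 = b.val / 2) →
          Perm.sign x = 1 → (X.image g).image x = X.image g := by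
        intro x hx hs
        rw [transfer, hX _ (hg x (fun a b => hx a b) hs)]
      have h1 := hmem (swap 0 1 * swap 2 3) (by decide +kernel) (by decide +kernel)
      have h2 := hmem (swap 0 2 * swap 2 4 * (swap 1 3 * swap 3 5)) (by decide +kernel) (by decide +kernel)
      have hc : (X.image g).card = 3 := by rw [Finset.card_image_of_injective _ g.injective, hX3]
      revert hc h1 h2
      generalize X.image g = Y
      revert Y
      decide +kernel
    · obtain ⟨g, hg⟩ := key (relStab (pairs 8)) fun s hs hd =>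
        pi_of_le_four D hs (prime_le_four_of_dvd_pairs le_rfl hs hd)
      obtain ⟨X, hX4, hX⟩ := exists_class (cycleSetoid (amb H)) (b := 4) (by
        rw [D.count, shape, if_neg (by omega), if_neg (by omega), if_pos rfl]; norm_num)
      have hmem : ∀ x : Perm (Fin 8), (∀ a b : Fin 8, (x a).val / 2 = (x b).val / 2 ↔ a.val / 2 = b.val / 2) →
          Perm.sign x = 1 → (X.image g).image x = X.image g ∨ Disjoint ((X.image g).image x) (X.image g) := by
        intro x hx hs
        rcases hX _ (hg x (fun a b => hx a b) hs) with h | h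
        · exact Or.inl (by rw [transfer, h])
        · exact Or.inr (by rw [transfer]; exact (Finset.disjoint_image g.injective).2 h)
      have h1 := hmem (swap 0 1 * swap 2 3) (by decide +kernel) (by decide +kernel)
      have h2 := hmem (swap 0 2 * swap 2 4 * (swap 1 3 * swap 3 5)) (by decide +kernel) (by decide +kernel)
      have h3 := hmem (swap 2 4 * swap 4 6 * (swap 3 5 * swap 5 7)) (by decide +kernel) (by decide +kernel)
      have hc : (X.image g).card = 4 := by rw [Finset.card_image_of_injective _ g.injective, hX4]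
      revert hc h1 h2 h3
      generalize X.image g = Y
      revert Y
      decide +kernel

theorem isDPi_alt_iff (hn : 5 ≤ n) :
    Cfsg.IsDPiGroup π (alternatingGroup (Fin n)) ↔ Degenerate π (alternatingGroup (Fin n)) := by
  refine ⟨fun h => ?_, isDPi_of_degenerate⟩
  by_contra hdeg
  refine not_isDPi_alt ?_ h
  simp only [Degenerate, not_or, not_forall] at hdeg
  obtain ⟨⟨r, s, hr, hs, hrπ, hsπ, hrd, hsd, hne⟩, t, ht, htd, htπ⟩ := hdeg
  have hle : ∀ u : ℕ, u.Prime → u ∣ Nat.card (alternatingGroup (Fin n)) → u ≤ n := fun u hu hd =>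
    (prime_dvd_card_perm hu).1 (hd.trans (Subgroup.card_subgroup_dvd_card _))
  exact ⟨⟨r, s, hr, hs, hne, hrπ, hsπ, hle r hr hrd, hle s hs hsd⟩, t, ht, hle t ht htd, htπ⟩

end CfsgLib.HallSymm
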